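import Cfsg.Agent.Lib.Helper28.BigSub
import Cfsg.Agent.Lib.Helper27.LBalance3

set_option autoImplicit false

namespace Cfsg.Agent.Lib.Helper28

universe u

section
variable {G : Type u} [Group G]

/-- a component of `H ⊴ K` is a component of `K` -/
theorem IsCompIn.of_normal {L H K : Subgroup G} (h : IsCompIn L H) (hHK : H ≤ K)
    (hn : K ≤ Subgroup.normalizer (H : Set G)) : IsCompIn L K := by
  refine ⟨h.1.trans hHK, ?_⟩
  have hN : (H.subgroupOf K).Normal := (Subgroup.normal_subgroupOf_iff_le_normalizer hHK).mpr hn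
  refine isComponent_of_subgroupOf (K := H.subgroupOf K) ?_ hN.isSubnormal ?_
  · intro x hx
    exact Subgroup.mem_subgroupOf.mpr (h.1 (Subgroup.mem_subgroupOf.mp hx))
  · have h1 := isComponent_map_equiv (Subgroup.subgroupOfEquivOfLe hHK).symm h.2
    convert h1 using 1
    ext x
    constructor
    · intro hx
      refine ⟨Subgroup.subgroupOfEquivOfLe hHK x, hx, ?_⟩
      simp
    · rintro ⟨y, hy, rfl⟩
      exact hy

theorem normalizer_le_normalizer_opIn (p : ℕ) (M : Subgroup G) :
    Subgroup.normalizer (M : Set G) ≤ Subgroup.normalizer (opIn p M : Set G) :=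
  le_normalizer_map_subtype_of_characteristic le_rfl (pCore_characteristic p)

theorem normalizer_le_normalizer_opPrimeIn (p : ℕ) (M : Subgroup G) :
    Subgroup.normalizer (M : Set G) ≤ Subgroup.normalizer (opPrimeIn p M : Set G) :=
  le_normalizer_map_subtype_of_characteristic le_rfl (pPrimeCore_characteristic p)

theorem opIn_commutator_opPrimeIn [Finite G] (p : ℕ) [Fact p.Prime] (M : Subgroup G) :
    ⁅opIn p M, opPrimeIn p M⁆ = ⊥ :=
  commutator_eq_bot_of_normalize ((opIn_le p M).trans (le_normalizer_opPrimeIn p M))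
    ((opPrimeIn_le p M).trans (le_normalizer_opIn p M))
    (inf_eq_bot_of_isPGroup_of_coprime (opIn_isPGroup p M) (opPrimeIn_coprime p M))

/-- Relative version of Aschbacher 31.17 and 31.18 (proved by helper27 in absolute form). -/
theorem rel_cpc [Finite G] (p : ℕ) [Fact p.Prime] {K : Subgroup G} (hO : opPrimeIn p K = ⊥)
    {t : G} (htK : t ∈ K) (ht : t ^ p = 1) {L : Subgroup G} (hL : IsCompIn L K) :
    opPrimeIn p (K ⊓ Subgroup.centralizer {t}) ≤ Subgroup.normalizer (L : Set G) ∧
    (⁅L, Subgroup.zpowers t⁆ ≠ L → ⁅L, opPrimeIn p (K ⊓ Subgroup.centralizer {t})⁆ = ⊥) := by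
  set W := opPrimeIn p (K ⊓ Subgroup.centralizer {t}) with hW
  have hWK : W ≤ K := (opPrimeIn_le p _).trans inf_le_left
  have hO' : Cfsg.pPrimeCore p ↥K = ⊥ :=
    (Subgroup.map_eq_bot_iff_of_injective _ K.subtype_injective).mp hO
  set x : ↥K := ⟨t, htK⟩ with hx
  have hxp : x ^ p = 1 := Subtype.ext ht
  have hW' : W.subgroupOf K ≤ Cfsg.centralizerPPrimeCore p x := by
    refine Cfsg.Agent.Lib.Helper27.le_map_pPrimeCore ?_ ?_ ?_
    · intro w hw
      have h1 : (w : G) ∈ Subgroup.centralizer {t} :=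
        (opPrimeIn_le p _ (Subgroup.mem_subgroupOf.mp hw)).2
      rw [Subgroup.mem_centralizer_singleton_iff] at h1 ⊢
      exact Subtype.ext h1
    · rw [← Subgroup.subgroupOf_normalizer_eq hWK]
      intro g hg
      rw [Subgroup.mem_subgroupOf]
      refine le_normalizer_opPrimeIn p _ ⟨g.2, ?_⟩
      rw [Subgroup.mem_centralizer_singleton_iff] at hg
      exact Subgroup.mem_centralizer_singleton_iff.mpr (congrArg Subtype.val hg)
    · rw [Nat.card_congr (Subgroup.subgroupOfEquivOfLe hWK).toEquiv, ← coprime_iff_not_dvd]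
      exact opPrimeIn_coprime p _
  constructor
  · have h1 := Cfsg.Agent.Lib.Helper27.cpc_le_normalizer_comp p hO' hxp hL.2
    rw [← Subgroup.subgroupOf_normalizer_eq hL.1] at h1
    intro w hw
    exact Subgroup.mem_subgroupOf.mp (h1 (hW' (show (⟨w, hWK hw⟩ : ↥K) ∈ W.subgroupOf K from
      Subgroup.mem_subgroupOf.mpr hw)))
  · intro hne
    have hne' : ⁅L.subgroupOf K, Subgroup.zpowers x⁆ ≠ L.subgroupOf K := by
      intro he
      apply hne
      have h2 := congrArg (Subgroup.map K.subtype) he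
      rwa [Subgroup.map_commutator, Subgroup.map_subgroupOf_eq_of_le hL.1,
        MonoidHom.map_zpowers] at h2
    have h1 := Cfsg.Agent.Lib.Helper27.comp_comm_cpc p hO' hxp hL.2 hne'
    rw [← commutator_subgroupOf_eq_bot hL.1 hWK, eq_bot_iff, ← h1]
    exact Subgroup.commutator_mono le_rfl hW'

end

end Cfsg.Agent.Lib.Helper28
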