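import Cfsg.Agent.Lib.Helper28.SylSub
import Cfsg.Agent.Lib.Helper28.BigSub
import Cfsg.Agent.Lib.Helper28.Cocycle
import Cfsg.Agent.Lib.Helper28.BenderPair
import Cfsg.Agent.Lib.Helper1.Coprime2

set_option autoImplicit false

namespace Cfsg.Agent.Lib.Helper28

open Cfsg Cfsg.Agent.Lib.Helper53

/-- In a finite cyclic group a subgroup is the set of solutions of `x ^ card = 1`. -/
theorem mem_iff_pow_card_eq_one_of_isCyclic {C : Type*} [Group C] [Finite C] [IsCyclic C]
    (L : Subgroup C) (x : C) : x ∈ L ↔ x ^ Nat.card L = 1 := by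
  classical
  have : Fintype C := Fintype.ofFinite C
  have key : (L : Set C) = {x : C | x ^ Nat.card L = 1} := by
    apply Set.eq_of_subset_of_ncard_le _ _ (Set.toFinite _)
    · intro x hx
      have : (⟨x, hx⟩ : L) ^ Nat.card L = 1 := pow_card_eq_one'
      exact congrArg Subtype.val this
    · have h1 := IsCyclic.card_pow_eq_one_le (α := C) (n := Nat.card L) Nat.card_pos
      have h2 : ({x : C | x ^ Nat.card L = 1} : Set C).ncard =
          (Finset.univ.filter fun a : C => a ^ Nat.card L = 1).card := by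
        rw [← Set.ncard_coe_finset]
        congr 1
        ext x
        simp
      rw [h2]
      exact h1
  have := Set.ext_iff.mp key x
  exact this

theorem le_of_card_dvd_of_isCyclic {C : Type*} [Group C] [Finite C] [IsCyclic C]
    {A B : Subgroup C} (h : Nat.card A ∣ Nat.card B) : A ≤ B := by
  intro x hx
  rw [mem_iff_pow_card_eq_one_of_isCyclic] at hx ⊢
  obtain ⟨k, hk⟩ := h
  rw [hk, pow_mul, hx, one_pow]

/-- The subgroups of a cyclic `p`-group form a chain. -/
theorem le_total_of_isCyclic_of_isPGroup {C : Type*} [Group C] [Finite C] [IsCyclic C] {p : ℕ}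
    [Fact p.Prime] (hC : IsPGroup p C) (A B : Subgroup C) : A ≤ B ∨ B ≤ A := by
  obtain ⟨a, ha⟩ := (hC.to_subgroup A).exists_card_eq
  obtain ⟨b, hb⟩ := (hC.to_subgroup B).exists_card_eq
  rcases le_total a b with h | h
  · left; apply le_of_card_dvd_of_isCyclic; rw [ha, hb]; exact pow_dvd_pow p h
  · right; apply le_of_card_dvd_of_isCyclic; rw [ha, hb]; exact pow_dvd_pow p h

variable {G : Type*} [Group G]

theorem le_total_of_le_cyclic [Finite G] {p : ℕ} [Fact p.Prime] {P A B : Subgroup G}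
    (hc : IsCyclic ↥P) (hP : IsPGroup p ↥P) (hA : A ≤ P) (hB : B ≤ P) : A ≤ B ∨ B ≤ A := by
  rcases le_total_of_isCyclic_of_isPGroup hP (A.subgroupOf P) (B.subgroupOf P) with h | h
  · left; intro x hx
    exact h (show (⟨x, hA hx⟩ : ↥P) ∈ A.subgroupOf P from hx)
  · right; intro x hx
    exact h (show (⟨x, hB hx⟩ : ↥P) ∈ B.subgroupOf P from hx)

theorem inf_ne_bot_of_le_cyclic [Finite G] {p : ℕ} [Fact p.Prime] {P A B : Subgroup G}
    (hc : IsCyclic ↥P) (hP : IsPGroup p ↥P) (hA : A ≤ P) (hB : B ≤ P) (hA1 : A ≠ ⊥) (hB1 : B ≠ ⊥) :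
    A ⊓ B ≠ ⊥ := by
  rcases le_total_of_le_cyclic hc hP hA hB with h | h
  · rwa [inf_eq_left.mpr h]
  · rwa [inf_eq_right.mpr h]

open scoped IsMulCommutative in
/-- A perfect finite group with an abelian Sylow `p`-subgroup `S` has `S ∩ Z = 1`. -/
theorem eq_one_of_mem_center_of_perfect {H : Type*} [Group H] [Finite H] {p : ℕ} [Fact p.Prime]
    (hperf : commutator H = ⊤) (S : Sylow p H) (hS : IsMulCommutative ↥(S : Subgroup H)) {z : H}
    (hz : z ∈ (S : Subgroup H)) (hzc : z ∈ Subgroup.center H) : z = 1 := by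
  have key : ∀ (k : ℕ) (g₀ : H), g₀⁻¹ * z ^ k * g₀ ∈ (S : Subgroup H) →
      g₀⁻¹ * z ^ k * g₀ = z ^ k := by
    intro k g₀ _
    have h := Subgroup.mem_center_iff.mp (pow_mem hzc k) g₀
    rw [mul_assoc, ← h, inv_mul_cancel_left]
  have h1 := MonoidHom.transfer_eq_pow (MonoidHom.id ↥(S : Subgroup H)) z key
  have h2 : MonoidHom.transfer (MonoidHom.id ↥(S : Subgroup H)) z = 1 := by
    have h3 : z ∈ commutator H := hperf ▸ Subgroup.mem_top z
    exact Abelianization.commutator_subset_ker _ h3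
  rw [h2] at h1
  have h4 : z ^ (S : Subgroup H).index = 1 := (congrArg Subtype.val h1).symm
  obtain ⟨k, hk⟩ := S.2 ⟨z, hz⟩
  have hk' : z ^ p ^ k = 1 := congrArg Subtype.val hk
  refine eq_one_of_pow_eq_one_of_coprime h4 hk' ?_
  exact Nat.Coprime.pow_right k ((coprime_iff_not_dvd _).mpr S.not_dvd_index)

/-- relative version -/
theorem eq_one_of_mem_centralizer_of_perfect [Finite G] {p : ℕ} [Fact p.Prime] {L S : Subgroup G}
    (hL : ⁅L, L⁆ = L) (hS : IsSyl p S L) (hc : ∀ a ∈ S, ∀ b ∈ S, a * b = b * a) {z : G}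
    (hz : z ∈ S) (hzc : z ∈ Subgroup.centralizer (L : Set G)) : z = 1 := by
  have hperf : commutator ↥L = ⊤ := by
    apply Subgroup.map_injective L.subtype_injective
    rw [Subgroup.map_subtype_commutator, hL, ← MonoidHom.range_eq_map, Subgroup.range_subtype]
  have hmem : ∀ x : ↥L, x ∈ (hS.toSylow : Subgroup ↥L) ↔ (x : G) ∈ S := by
    intro x
    rw [IsSyl.coe_toSylow]
    exact Subgroup.mem_subgroupOf
  have hcomm : IsMulCommutative ↥(hS.toSylow : Subgroup ↥L) :=
    ⟨⟨fun a b => Subtype.ext (Subtype.ext (hc _ ((hmem _).mp a.2) _ ((hmem _).mp b.2)))⟩⟩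
  have h1 := eq_one_of_mem_center_of_perfect hperf hS.toSylow hcomm
    (z := ⟨z, hS.le hz⟩) ((hmem _).mpr hz) (by
      rw [Subgroup.mem_center_iff]
      intro g
      exact Subtype.ext (Subgroup.mem_centralizer_iff.mp hzc g g.2))
  exact congrArg Subtype.val h1

theorem mem_of_pow_mem_of_pow_mem {H : Subgroup G} {x : G} {a b : ℕ} (ha : x ^ a ∈ H)
    (hb : x ^ b ∈ H) (hab : a.Coprime b) : x ∈ H := by
  have h1 : x ^ ((a : ℤ) * Nat.gcdA a b + (b : ℤ) * Nat.gcdB a b) ∈ H := by
    rw [zpow_add, zpow_mul, zpow_mul, zpow_natCast, zpow_natCast]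
    exact H.mul_mem (H.zpow_mem ha _) (H.zpow_mem hb _)
  rw [← Nat.gcd_eq_gcd_ab, hab.gcd_eq_one] at h1
  simpa using h1

/-- An element normalising a cyclic Sylow `p`-subgroup `P` and acting trivially on `P / P₀` for
a proper subgroup `P₀` centralises `P`. -/
theorem mem_centralizer_of_commutator_le_of_cyclic [Finite G] {p : ℕ} [Fact p.Prime]
    {P P₀ X : Subgroup G} (hS : IsSyl p P X) (hc : IsCyclic ↥P) (h0 : P₀ < P) {l : G}
    (hlX : l ∈ X) (hl : l ∈ Subgroup.normalizer (P : Set G))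
    (hcomm : ⁅P, Subgroup.zpowers l⁆ ≤ P₀) : l ∈ Subgroup.centralizer (P : Set G) := by
  have hpp : p.Prime := Fact.out
  have hcommP : ∀ a ∈ P, ∀ b ∈ P, a * b = b * a := by
    intro a ha b hb
    have h1 : IsMulCommutative ↥P := inferInstance
    exact congrArg Subtype.val (h1.is_comm.comm (⟨a, ha⟩ : ↥P) ⟨b, hb⟩)
  obtain ⟨a, m, hm, hlm⟩ := Nat.exists_eq_pow_mul_and_not_dvd (orderOf_pos l).ne' p hpp.ne_one
  have hmp : m.Coprime p := (coprime_iff_not_dvd m).mpr hm
  -- the `p`-part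
  have hu : l ^ m ∈ Subgroup.centralizer (P : Set G) := by
    have h1 : Subgroup.zpowers (l ^ m) ≤ P := by
      apply hS.le_of_le_normalizer
      · rw [Subgroup.zpowers_le]; exact pow_mem hlX m
      · rw [IsPGroup.iff_card]
        have h0 : Nat.card ↥(Subgroup.zpowers (l ^ m)) ∣ p ^ a := by
          rw [Nat.card_zpowers]
          apply orderOf_dvd_of_pow_eq_one
          rw [← pow_mul, mul_comm, ← hlm, pow_orderOf_eq_one]
        obtain ⟨k, -, hk⟩ := (Nat.dvd_prime_pow hpp).mp h0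
        exact ⟨k, hk⟩
      · rw [Subgroup.zpowers_le]; exact pow_mem hl m
    have h2 : l ^ m ∈ P := h1 (Subgroup.mem_zpowers _)
    rw [Subgroup.mem_centralizer_iff]
    intro y hy
    exact hcommP y hy _ h2
  have hw : l ^ p ^ a ∈ Subgroup.centralizer (P : Set G) := by
    set W := Subgroup.zpowers (l ^ p ^ a) with hW
    have hWl : W ≤ Subgroup.zpowers l := by
      rw [hW, Subgroup.zpowers_le]; exact pow_mem (Subgroup.mem_zpowers l) _
    have hWn : W ≤ Subgroup.normalizer (P : Set G) := by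
      rw [hW, Subgroup.zpowers_le]; exact pow_mem hl _
    have hWc : (Nat.card ↥W).Coprime (Nat.card ↥P) := by
      obtain ⟨k, hk⟩ := hS.isPGroup.exists_card_eq
      rw [hk]
      apply Nat.Coprime.pow_right
      refine Nat.Coprime.coprime_dvd_left ?_ hmp
      rw [hW, Nat.card_zpowers]
      apply orderOf_dvd_of_pow_eq_one
      rw [← pow_mul, ← hlm, pow_orderOf_eq_one]
    have h3 := Cfsg.Agent.Lib.Helper1.coprime_commutator_sup_centralizer W P hWn hWc
      (Or.inl inferInstance)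
    have h4 : ⁅P, W⁆ ≤ P₀ := (Subgroup.commutator_mono le_rfl hWl).trans hcomm
    have h5 : P ≤ Subgroup.centralizer (W : Set G) := by
      rcases le_total_of_le_cyclic hc hS.isPGroup (h4.trans h0.le)
        (inf_le_left : P ⊓ Subgroup.centralizer (W : Set G) ≤ P) with h | h
      · rw [sup_eq_right.mpr h] at h3
        exact inf_eq_left.mp h3
      · rw [sup_eq_left.mpr h] at h3
        rw [h3] at h4
        exact absurd h4 (not_le_of_gt h0)
    exact (le_centralizer_comm h5) (Subgroup.mem_zpowers _)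
  exact mem_of_pow_mem_of_pow_mem hu hw (Nat.Coprime.pow_right a hmp)

/-- Burnside: in a nonabelian simple group a nontrivial Sylow subgroup is not central in its
normaliser. -/
theorem exists_mem_normalizer_not_mem_centralizer {H : Type*} [Group H] [Finite H]
    [IsSimpleGroup H] (hna : ¬ IsMulCommutative H) {p : ℕ} [Fact p.Prime] (S : Sylow p H)
    (hS : (S : Subgroup H) ≠ ⊥) :
    ∃ n ∈ Subgroup.normalizer ((S : Subgroup H) : Set H),
      n ∉ Subgroup.centralizer ((S : Subgroup H) : Set H) := by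
  by_contra hcon
  push Not at hcon
  have hle : Subgroup.normalizer ((S : Subgroup H) : Set H) ≤
      Subgroup.centralizer ((S : Subgroup H) : Set H) := hcon
  have h1 := MonoidHom.ker_transferSylow_isComplement' S hle
  rcases (MonoidHom.normal_ker (MonoidHom.transferSylow S hle)).eq_bot_or_eq_top with h | h
  · rw [h, Subgroup.isComplement'_bot_left] at h1
    apply hna
    refine ⟨⟨fun a b => ?_⟩⟩
    have h2 : b ∈ Subgroup.centralizer ((S : Subgroup H) : Set H) := by
      apply hle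
      rw [h1, Subgroup.normalizer_eq_top]
      exact Subgroup.mem_top b
    have h3 : a ∈ (S : Subgroup H) := h1 ▸ Subgroup.mem_top a
    exact Subgroup.mem_centralizer_iff.mp h2 a h3
  · rw [h, Subgroup.isComplement'_top_left] at h1
    exact hS h1

theorem exists_mem_normalizer_not_mem_centralizer' [Finite G] {L : Subgroup G}
    (hs : IsSimpleGroup ↥L) (hna : ¬ IsMulCommutative ↥L) {p : ℕ} [Fact p.Prime] {S : Subgroup G}
    (hS : IsSyl p S L) (hS1 : S ≠ ⊥) :
    ∃ n ∈ L, n ∈ Subgroup.normalizer (S : Set G) ∧ n ∉ Subgroup.centralizer (S : Set G) := by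
  have hmem : ∀ x : ↥L, x ∈ (hS.toSylow : Subgroup ↥L) ↔ (x : G) ∈ S := by
    intro x
    rw [IsSyl.coe_toSylow]
    exact Subgroup.mem_subgroupOf
  obtain ⟨n, hn, hnc⟩ := exists_mem_normalizer_not_mem_centralizer hna hS.toSylow (by
    intro hb
    apply hS1
    rw [eq_bot_iff]
    intro x hx
    have h1 : (⟨x, hS.le hx⟩ : ↥L) ∈ (hS.toSylow : Subgroup ↥L) := (hmem _).mpr hx
    rw [hb] at h1
    exact congrArg Subtype.val (Subgroup.mem_bot.mp h1))
  refine ⟨n, n.2, ?_, ?_⟩
  · have hn' := Subgroup.mem_normalizer_iff.mp hn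
    rw [Subgroup.mem_normalizer_iff]
    intro h
    constructor
    · intro hh
      exact (hmem _).mp ((hn' ⟨h, hS.le hh⟩).mp ((hmem _).mpr hh))
    · intro hh
      have hhL : h ∈ L := by
        have := L.mul_mem (L.mul_mem (L.inv_mem n.2) (hS.le hh)) n.2
        simpa [mul_assoc] using this
      exact (hmem _).mp ((hn' ⟨h, hhL⟩).mpr ((hmem _).mpr hh))
  · intro hc
    apply hnc
    rw [Subgroup.mem_centralizer_iff]
    intro y hy
    exact Subtype.ext (Subgroup.mem_centralizer_iff.mp hc y ((hmem y).mp hy))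

theorem cyclic_quotient_of_self_centralizing {K : Type*} [Group K] [Finite K] {p : ℕ}
    [Fact p.Prime] (P : Sylow p K) (hP : IsCyclic ↥(P : Subgroup K))
    (hn : (P : Subgroup K).Normal)
    (hC : Subgroup.centralizer ((P : Subgroup K) : Set K) = (P : Subgroup K)) :
    IsCyclic (K ⧸ (P : Subgroup K)) ∧ (P : Subgroup K).index ∣ p - 1 := by
  have hpp : p.Prime := Fact.out
  set φ : K →* MulAut ↥(P : Subgroup K) := MulAut.conjNormal with hφ
  have hker : φ.ker = (P : Subgroup K) := by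
    refine Eq.trans ?_ hC
    ext x
    rw [MonoidHom.mem_ker, Subgroup.mem_centralizer_iff]
    constructor
    · intro h y hy
      have h1 : ((φ x ⟨y, hy⟩ : ↥(P : Subgroup K)) : K) = y := by rw [h]; rfl
      rw [hφ, MulAut.conjNormal_apply] at h1
      have h2 : x * y * x⁻¹ = y := h1
      rw [mul_inv_eq_iff_eq_mul] at h2
      exact h2.symm
    · intro h
      ext y
      rw [hφ, MulAut.conjNormal_apply]
      have h2 := h y y.2
      rw [← h2, mul_inv_cancel_right]
      rfl
  let e : K ⧸ (P : Subgroup K) ≃* φ.range :=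
    (QuotientGroup.quotientMulEquivOfEq hker.symm).trans (QuotientGroup.quotientKerEquivRange φ)
  have hidx : (P : Subgroup K).index ∣ Nat.card (MulAut ↥(P : Subgroup K)) := by
    rw [Subgroup.index_eq_card, Nat.card_congr e.toEquiv]
    exact Subgroup.card_subgroup_dvd_card _
  obtain ⟨n, hn⟩ := P.2.exists_card_eq
  have hdvd : (P : Subgroup K).index ∣ p - 1 := by
    rw [IsCyclic.card_mulAut, hn] at hidx
    have hcop : ((P : Subgroup K).index).Coprime p := (coprime_iff_not_dvd _).mpr P.not_dvd_index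
    rcases Nat.eq_zero_or_pos n with h0 | h0
    · subst h0
      rw [pow_zero, Nat.totient_one] at hidx
      exact hidx.trans (one_dvd _)
    · rw [Nat.totient_prime_pow hpp h0] at hidx
      exact (Nat.Coprime.pow_right (n - 1) hcop).dvd_of_dvd_mul_left hidx
  refine ⟨?_, hdvd⟩
  by_cases h2 : p = 2
  · subst h2
    have h1 : (P : Subgroup K).index = 1 := Nat.dvd_one.mp hdvd
    rw [Subgroup.index_eq_card] at h1
    have : Subsingleton (K ⧸ (P : Subgroup K)) := (Nat.card_eq_one_iff_unique.mp h1).1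
    exact isCyclic_of_subsingleton
  · have h3 : IsCyclic (ZMod (Nat.card ↥(P : Subgroup K)))ˣ := by
      rw [hn]; exact ZMod.isCyclic_units_of_prime_pow p hpp h2 n
    have h4 : IsCyclic (MulAut ↥(P : Subgroup K)) :=
      isCyclic_of_injective (IsCyclic.mulAutMulEquiv ↥(P : Subgroup K)).toMonoidHom
        (IsCyclic.mulAutMulEquiv ↥(P : Subgroup K)).injective
    exact isCyclic_of_injective (φ.range.subtype.comp e.toMonoidHom)
      (φ.range.subtype_injective.comp e.injective)

open scoped commutatorElement in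
theorem sylow_le_of_simple_normal {G : Type*} [Group G] [Finite G] {p : ℕ} [Fact p.Prime]
    (P : Sylow p G) (hc : IsCyclic ↥(P : Subgroup G)) {L : Subgroup G} (hLn : L.Normal)
    (hs : IsSimpleGroup ↥L) (hna : ¬ IsMulCommutative ↥L) (hne : (P : Subgroup G) ⊓ L ≠ ⊥) :
    (P : Subgroup G) ≤ L := by
  by_contra hcon
  have hcommP : ∀ a ∈ (P : Subgroup G), ∀ b ∈ (P : Subgroup G), a * b = b * a := by
    intro a ha b hb
    have h1 : IsMulCommutative ↥(P : Subgroup G) := inferInstance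
    exact congrArg Subtype.val (h1.is_comm.comm (⟨a, ha⟩ : ↥(P : Subgroup G)) ⟨b, hb⟩)
  set P₀ := (P : Subgroup G) ⊓ L with hP₀
  have h0 : P₀ < (P : Subgroup G) :=
    lt_of_le_of_ne inf_le_left (fun h => hcon (h ▸ inf_le_right))
  have hsyl0 : IsSyl p P₀ L := isSyl_inf_subnormal P hLn.isSubnormal
  obtain ⟨n, hnL, hnN, hnC⟩ := exists_mem_normalizer_not_mem_centralizer' hs hna hsyl0 hne
  set X := L ⊔ (P : Subgroup G) with hX
  have hPX : IsSyl p (P : Subgroup G) X := (isSyl_top P).of_le le_sup_right le_top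
  set C₁ := X ⊓ Subgroup.centralizer (P₀ : Set G) with hC₁
  set N₁ := X ⊓ Subgroup.normalizer (P₀ : Set G) with hN₁
  have hPc : (P : Subgroup G) ≤ Subgroup.centralizer (P₀ : Set G) := by
    intro x hx
    rw [Subgroup.mem_centralizer_iff]
    intro y hy
    exact hcommP y hy.1 x hx
  have hPC : (P : Subgroup G) ≤ C₁ := le_inf le_sup_right hPc
  have hsylC : IsSyl p (P : Subgroup G) C₁ := hPX.of_le hPC inf_le_left
  have hCN : C₁ ≤ N₁ := inf_le_inf_left _ (Subgroup.centralizer_le_normalizer _)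
  have hNn : N₁ ≤ Subgroup.normalizer (C₁ : Set G) :=
    le_normalizer_inf' (inf_le_left.trans Subgroup.le_normalizer)
      (inf_le_right.trans (normalizer_le_normalizer_centralizer P₀))
  obtain ⟨c, hcC, l, hl, rfl⟩ := frattini_arg hsylC hCN hNn (k := n)
    ⟨(le_sup_left : L ≤ L ⊔ (P : Subgroup G)) hnL, hnN⟩
  have hmk : ∀ g ∈ X, ∃ b ∈ (P : Subgroup G), QuotientGroup.mk' L g = QuotientGroup.mk' L b := by
    intro g hg
    have hg' : g ∈ ((L ⊔ (P : Subgroup G) : Subgroup G) : Set G) := hg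
    rw [Subgroup.normal_mul] at hg'
    obtain ⟨a, ha, b, hb, rfl⟩ := Set.mem_mul.mp hg'
    refine ⟨b, hb, ?_⟩
    have h1 : QuotientGroup.mk' L a = 1 := (QuotientGroup.eq_one_iff a).mpr ha
    rw [map_mul, h1, one_mul]
  have hXX : ∀ g₁ ∈ X, ∀ g₂ ∈ X, ⁅g₁, g₂⁆ ∈ L := by
    intro g₁ h₁ g₂ h₂
    obtain ⟨b₁, hb₁, e₁⟩ := hmk g₁ h₁
    obtain ⟨b₂, hb₂, e₂⟩ := hmk g₂ h₂
    rw [← QuotientGroup.ker_mk' L, MonoidHom.mem_ker, map_commutatorElement, e₁, e₂,
      ← map_commutatorElement, commutatorElement_eq_one_iff_mul_comm.mpr (hcommP b₁ hb₁ b₂ hb₂),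
      map_one]
  have hlz : Subgroup.zpowers l ≤ X := by
    rw [Subgroup.zpowers_le]; exact hl.1.1
  have hlzn : Subgroup.zpowers l ≤ Subgroup.normalizer ((P : Subgroup G) : Set G) := by
    rw [Subgroup.zpowers_le]; exact hl.2
  have hcomm : ⁅(P : Subgroup G), Subgroup.zpowers l⁆ ≤ P₀ := by
    refine le_inf (Cfsg.Agent.Lib.Helper1.commutator_le_left_of_le_normalizer hlzn) ?_
    rw [Subgroup.commutator_le]
    intro g₁ h₁ g₂ h₂
    exact hXX g₁ (le_sup_right (a := L) h₁) g₂ (hlz h₂)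
  have hlc := mem_centralizer_of_commutator_le_of_cyclic hPX hc h0 hl.1.1 hl.2 hcomm
  apply hnC
  exact mul_mem hcC.2 (Subgroup.centralizer_le (show (P₀ : Set G) ⊆ (P : Subgroup G) from
    fun x hx => hx.1) hlc)

end Cfsg.Agent.Lib.Helper28
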