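import Cfsg.Agent.Lib.Helper28.BG12b
import Cfsg.Agent.Lib.Helper27.Signalizer
import Cfsg.Agent.S1451
import Cfsg.Agent.Lib.Helper28.CyclicSylow

/-!
B-G section 16 (Theorems A, B): consequences of the texts of S1415-S1421, S1430, S1431.
-/

set_option autoImplicit false

namespace Cfsg.Agent.Lib.Helper28.BG12

open Subgroup Cfsg.Agent.Lib.Helper30 Cfsg.Agent.Lib.Helper2 Cfsg.Agent.Lib.Helper68
open scoped commutatorElement

universe u

variable {G : Type u} [Group G]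

/-! ### more general facts -/

theorem coatom_ne_bot (hG : Cfsg.IsMinSimpleOddOrder G) {M : Subgroup G} (hM : IsCoatom M) :
    M ≠ ⊥ := by
  rintro rfl
  apply hG.2.2.1
  have h : ∀ x : G, x ≠ 1 → zpowers x = ⊤ := fun x hx =>
    hM.2 _ (bot_lt_iff_ne_bot.mpr (by rwa [Ne, zpowers_eq_bot]))
  refine ⟨⟨fun a b => ?_⟩⟩
  by_cases ha : a = 1
  · subst ha; simp
  have hb : b ∈ zpowers a := by rw [h a ha]; trivial
  obtain ⟨k, rfl⟩ := mem_zpowers_iff.mp hb
  exact ((Commute.refl a).zpow_right k).eq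

theorem mem_of_cj_eq (hG : Cfsg.IsMinSimpleOddOrder G) {M : Subgroup G} (hM : IsCoatom M)
    {g : G} (h : cj g M = M) : g ∈ M := by
  have h1 := normalizer_eq_of_coatom hG hM (coatom_ne_bot hG hM) le_rfl le_normalizer
  rw [← h1]
  exact mem_normalizer_of_cj_eq h

theorem isCoatom_cj {M : Subgroup G} (hM : IsCoatom M) (g : G) : IsCoatom (cj g M) := by
  refine ⟨fun h => hM.1 ?_, fun L hL => ?_⟩
  · have := congrArg (cj g⁻¹) h
    rw [cj_inv_cj] at this
    rw [this, eq_top_iff]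
    intro x _
    rw [mem_cj]
    trivial
  · have h1 : M < cj g⁻¹ L := by
      refine lt_of_le_of_ne ?_ ?_
      · rw [← cj_inv_cj g M]; exact cj_mono _ hL.le
      · intro h
        apply hL.ne
        rw [h, cj_cj_inv]
    have h2 := hM.2 _ h1
    have := congrArg (cj g) h2
    rw [cj_cj_inv] at this
    rw [this, eq_top_iff]
    intro x _
    rw [mem_cj]
    trivial

/-- `M_σ ≠ 1` (B-G 10.2(e)). -/
theorem sigmaCore_ne_bot [Finite G] (hG : Cfsg.IsMinSimpleOddOrder G) {M : Subgroup G}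
    (hM : IsCoatom M) : Cfsg.sigmaCore M ≠ ⊥ := by
  intro hbot
  have hσ : ∀ p, p ∉ Cfsg.sigma M := by
    intro p hp
    have : Fact p.Prime := ⟨hp.1⟩
    obtain ⟨P, hP⟩ := exists_isSylowIn p M
    have h1 := isPGroup_le_sigmaCore hG hM hp hP.le hP.isPGroup
    rw [hbot, le_bot_iff] at h1
    apply hP.not_dvd
    rw [h1, relIndex_bot_left]
    exact hp.2.1
  have hr : Cfsg.RankLE 2 M := fun p hp => pRankLE_two_of_not_mem_sigma hG hM hp (hσ p)
  have hsol := solvable_of_ne_top hG hM.1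
  have hodd : Odd (Nat.card M) := hG.1.of_dvd_nat (card_subgroup_dvd_card M)
  have hM1 := coatom_ne_bot hG hM
  have hne : (Nat.card M).primeFactors.Nonempty := by
    rw [Nat.nonempty_primeFactors]
    exact (one_lt_card_iff_ne_bot M).mpr hM1
  set q := (Nat.card M).primeFactors.max' hne with hqdef
  have hq : q ∈ (Nat.card M).primeFactors := Finset.max'_mem _ _
  have hqp : q.Prime := Nat.prime_of_mem_primeFactors hq
  have hqd : q ∣ Nat.card M := Nat.dvd_of_mem_primeFactors hq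
  obtain ⟨N, hNc, hN⟩ := (Cfsg.Agent.S1451.result (G := M) hodd (Or.inl hr)).2.2 (q - 1)
  have : Fact q.Prime := ⟨hqp⟩
  have hNp : IsPGroup q N := by
    apply IsPGroup.of_card (n := (Nat.card N).primeFactorsList.length)
    apply Nat.eq_prime_pow_of_unique_prime_dvd Nat.card_pos.ne'
    intro d hd hdN
    have h1 : q - 1 < d := (hN.1 d hd hdN).2
    have h2 : d ≤ q := Finset.le_max' _ _ (Nat.mem_primeFactors.mpr
      ⟨hd, hdN.trans (card_subgroup_dvd_card N), Nat.card_pos.ne'⟩)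
    omega
  have hidx : ¬ q ∣ N.index := hN.2 q hqp ⟨hqp, by have := hqp.two_le; omega⟩
  have hQ : IsSylowIn q (N.map M.subtype) M := isSylowIn_of_sylow (hNp.toSylow hidx)
  have hQ1 : N.map M.subtype ≠ ⊥ := by
    intro h
    apply hQ.not_dvd
    rw [h, relIndex_bot_left]
    exact hqd
  have hn : M ≤ normalizer ((N.map M.subtype : Subgroup G) : Set G) :=
    Cfsg.Agent.Lib.Helper28.le_normalizer_map_subtype (normal_of_characteristic N)
  exact hσ q (mem_sigma_of_normalizer_le hQ hQ1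
    (normalizer_eq_of_coatom hG hM hQ1 hQ.le hn).le)

theorem isComplIn_of_hall_compl [Finite G] {π : Set ℕ} {H₁ H₂ M : Subgroup G}
    (h₁ : Cfsg.IsPiHallOf π H₁ M) (h₂ : Cfsg.IsPiHallOf πᶜ H₂ M) : Cfsg.IsComplIn H₂ H₁ M := by
  have hcop : (Nat.card H₂).Coprime (Nat.card H₁) :=
    Nat.coprime_of_dvd (fun k hk a b => h₂.2.1 k hk a (h₁.2.1 k hk b))
  have hcard : Nat.card H₂ * Nat.card H₁ = Nat.card M := by
    have e1 := card_eq_card_mul_relIndex h₂.1
    have e2 := card_eq_card_mul_relIndex h₁.1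
    have h3 : Nat.card H₁ = H₂.relIndex M := by
      apply Cfsg.Agent.Lib.Helper66.pi_factorization_unique (π := π)
        (n₁ := H₁.relIndex M) (n₂ := Nat.card H₂)
      · rw [← e2, e1, mul_comm]
      · exact h₁.2.1
      · exact h₁.2.2
      · intro q hq hqd
        by_contra hqs
        exact h₂.2.2 q hq hqs hqd
      · intro q hq hqs hqd
        exact h₂.2.1 q hq hqd hqs
    rw [h3, ← e1]
  have h4 : IsComplement' (H₂.subgroupOf M) (H₁.subgroupOf M) := by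
    apply isComplement'_of_coprime
    · rw [card_subgroupOf h₂.1, card_subgroupOf h₁.1, hcard]
    · rw [card_subgroupOf h₂.1, card_subgroupOf h₁.1]; exact hcop
  have h5 := isComplIn_of_isComplement' h₂.1 h4
  rwa [map_subgroupOf_eq_of_le h₁.1] at h5

theorem pRankLE_one_of_kappa [Finite G] {M : Subgroup G} {p : ℕ} (hp : p ∈ Cfsg.kappa M) :
    Cfsg.PRankLE p 1 M := by
  have : Fact p.Prime := ⟨hp.1⟩
  intro A _ hAe
  have hAp : IsPGroup p A := fun a => ⟨1, by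
    rw [pow_one]; exact Subtype.ext (hAe a.1 a.2)⟩
  obtain ⟨P, hP⟩ := hAp.exists_le_sylow
  have hc := (hp.2.2.2 P).1
  have hcA : IsCyclic A := Subgroup.isCyclic_of_le hP
  obtain ⟨g, hg⟩ := hcA.exists_generator
  rw [← orderOf_eq_card_of_forall_mem_zpowers hg, pow_one]
  exact Nat.le_of_dvd hp.1.pos (orderOf_dvd_of_pow_eq_one (Subtype.ext (hAe g.1 g.2)))

theorem mem_kappa_of [Finite G] (hG : Cfsg.IsMinSimpleOddOrder G) {M : Subgroup G}
    {p : ℕ} [hpp : Fact p.Prime] (hps : p ∉ Cfsg.sigma M) (hr : Cfsg.PRankLE p 1 M) {x y : G}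
    (hxM : x ∈ M) (hx : orderOf x = p) (hy : y ∈ Cfsg.sigmaCore M) (hy1 : y ≠ 1)
    (hxy : x * y = y * x) : p ∈ Cfsg.kappa M := by
  have hx1 : x ≠ 1 := by
    rintro rfl
    rw [orderOf_one] at hx
    exact hpp.out.one_lt.ne hx
  have hzp : IsPGroup p (zpowers x) := by
    apply IsPGroup.of_card (n := 1)
    rw [Nat.card_zpowers, hx, pow_one]
  have hz1 : zpowers x ≠ ⊥ := by rwa [Ne, zpowers_eq_bot]
  have hzM : zpowers x ≤ M := zpowers_le.mpr hxM
  refine ⟨hpp.out, (dvd_card_of_isPGroup_ne_bot hzp hz1).trans (card_dvd_of_le hzM), hps,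
    fun P => ⟨?_, ?_⟩⟩
  · exact Cfsg.Agent.Lib.Helper40.BG12.isCyclic_of_isPGroup_rank_one (G := M)
      (ne_two_of_isPGroup hG hzp hz1) hr P P.2
  · obtain ⟨Q, hQ, hxQ⟩ := exists_isSylowIn_ge hzM hzp
    obtain ⟨k, hk, hkP⟩ := hQ.conj (isSylowIn_of_sylow P)
    have h1 : k * x * k⁻¹ ∈ (P : Subgroup M).map M.subtype := by
      rw [hkP]; exact conj_mem_cj (hxQ (mem_zpowers x))
    obtain ⟨z, hz, hzx⟩ := h1
    refine ⟨z, hz, ?_, k * y * k⁻¹, ?_, ?_, ?_⟩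
    · rintro rfl
      apply hx1
      have : k * x * k⁻¹ = 1 := hzx.symm
      rwa [conj_eq_one_iff] at this
    · exact (mem_normalizer_iff.mp (le_normalizer_sigmaCore M hk) y).mp hy
    · rwa [Ne, conj_eq_one_iff]
    · have : (z : G) = k * x * k⁻¹ := hzx
      rw [this]
      calc k * x * k⁻¹ * (k * y * k⁻¹) = k * (x * y) * k⁻¹ := by group
        _ = k * (y * x) * k⁻¹ := by rw [hxy]
        _ = k * y * k⁻¹ * (k * x * k⁻¹) := by group

theorem tau2_of_not_kappa [Finite G] (hG : Cfsg.IsMinSimpleOddOrder G) {M : Subgroup G}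
    (hM : IsCoatom M) {X : Subgroup G} (hXM : X ≤ M)
    (hσ : ∀ r : ℕ, r.Prime → r ∣ Nat.card X → r ∉ Cfsg.sigma M)
    (hκ : ∀ r : ℕ, r.Prime → r ∣ Nat.card X → r ∉ Cfsg.kappa M)
    (hc : Cfsg.sigmaCore M ⊓ centralizer (X : Set G) ≠ ⊥) :
    ∀ r : ℕ, r.Prime → r ∣ Nat.card X → r ∈ Cfsg.tau2 M := by
  intro r hr hrX
  have : Fact r.Prime := ⟨hr⟩
  refine ⟨hr, hσ r hr hrX, pRankLE_two_of_not_mem_sigma hG hM hr (hσ r hr hrX), fun h1 => ?_⟩
  obtain ⟨x, hx⟩ := exists_prime_orderOf_dvd_card' (G := X) r hrX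
  obtain ⟨⟨y, hy⟩, hy1⟩ := Subgroup.ne_bot_iff_exists_ne_one.mp hc
  apply hκ r hr hrX
  refine mem_kappa_of hG (hσ r hr hrX) h1 (hXM x.2) (by rw [Subgroup.orderOf_coe, hx]) hy.1
    (fun h => hy1 (Subtype.ext h)) ?_
  exact mem_centralizer_iff.mp hy.2 x.1 x.2

/-- a nontrivial `(σ ∪ κ)'`-subgroup of `M` with fixed points on `M_σ` has its centralizer in
`M` only. -/
theorem uniq_of_sigma'_kappa' [Finite G] (hG : Cfsg.IsMinSimpleOddOrder G) (h17 : T1417 G)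
    (h18 : T1418 G) (h19 : T1419 G) {M : Subgroup G} (hM : IsCoatom M) {X : Subgroup G}
    (hXM : X ≤ M) (hX1 : X ≠ ⊥)
    (hσ : ∀ r : ℕ, r.Prime → r ∣ Nat.card X → r ∉ Cfsg.sigma M)
    (hκ : ∀ r : ℕ, r.Prime → r ∣ Nat.card X → r ∉ Cfsg.kappa M)
    (hc : Cfsg.sigmaCore M ⊓ centralizer (X : Set G) ≠ ⊥) :
    centralizer (X : Set G) ≤ M ∧
      ∀ L : Subgroup G, IsCoatom L → centralizer (X : Set G) ≤ L → L = M := by
  have hτ := tau2_of_not_kappa hG hM hXM hσ hκ hc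
  obtain ⟨E, hE, hXE⟩ := exists_compl_ge hG hM hXM hσ
  have hcard : Nat.card X ≠ 1 := fun h => hX1 ((card_eq_one (H := X)).mp h)
  have hpp : Fact (Nat.card X).minFac.Prime := ⟨Nat.minFac_prime hcard⟩
  have hp := hτ _ hpp.out (Nat.minFac_dvd _)
  obtain ⟨A, hA⟩ := exists_ea_sq_in_compl hG hM hE hp
  have hXA := tau2_elt_centralizes hG h17 h18 h19 hM hE hp hA hXE hτ
  have hAC : A ≤ centralizer (X : Set G) := by
    intro a ha
    rw [mem_centralizer_iff]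
    intro x hx
    exact (mem_centralizer_iff.mp (hXA hx) a ha).symm
  obtain ⟨⟨y, hy⟩, hy1⟩ := Subgroup.ne_bot_iff_exists_ne_one.mp hc
  have key : ∀ L : Subgroup G, IsCoatom L → centralizer (X : Set G) ≤ L → L = M := by
    intro L hL hCL
    by_contra hne
    have h1 := (h17 M hM _ hp A ⟨hA.1.trans hE.1, hA.2⟩).2.2.2.2.1 L hL hne (hAC.trans hCL)
    have h2 : y ∈ Cfsg.sigmaCore M ⊓ L := ⟨hy.1, hCL hy.2⟩
    rw [h1, mem_bot] at h2
    exact hy1 (Subtype.ext h2)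
  refine ⟨?_, key⟩
  obtain ⟨L, hL, hCL⟩ := exists_coatom_ge (centralizer_ne_top' hG hX1)
  rw [← key L hL hCL]
  exact hCL

/-! ### texts of S1421, S1430, S1431 -/

/-- text of S1421. -/
def T1421 (G : Type u) [Group G] : Prop :=
  ∀ (M : Subgroup G), IsCoatom M → ∀ (E : Subgroup G), Cfsg.IsComplIn E (Cfsg.sigmaCore M) M →
    (∀ e ∈ E, e ≠ 1 → (∀ p : ℕ, p.Prime → p ∣ orderOf e → p ∈ Cfsg.tau1 M ∪ Cfsg.tau3 M) →
      Cfsg.sigmaCore M ⊓ Subgroup.centralizer ({e} : Set G) = ⊥) →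
    (∃ A₀ : Subgroup G, A₀ ≤ E ∧ E ≤ Subgroup.normalizer (A₀ : Set G) ∧ IsMulCommutative A₀ ∧
        ∀ x ∈ Cfsg.sigmaCore M, x ≠ 1 → E ⊓ Subgroup.centralizer ({x} : Set G) ≤ A₀) ∧
      ∃ E₀ : Subgroup G, E₀ ≤ E ∧ Monoid.exponent E₀ = Monoid.exponent E ∧
        ∀ e ∈ E₀, e ≠ 1 → Cfsg.sigmaCore M ⊓ Subgroup.centralizer ({e} : Set G) = ⊥

/-- text of S1430. -/
def T1430 (G : Type u) [Group G] : Prop :=
  ∀ (M : Subgroup G), IsCoatom M → ∀ (K : Subgroup G), Cfsg.IsPiHallOf (Cfsg.kappa M) K M →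
    K ≠ ⊥ →
    (∀ k ∈ K, k ≠ 1 → Cfsg.sigmaCore M ⊓ Subgroup.centralizer ({k} : Set G) =
        (Cfsg.sigmaCore M ⊓ Subgroup.centralizer (K : Set G))) ∧
      (∃ U : Subgroup G, IsMulCommutative U ∧
        Cfsg.IsPiHallOf {q | q.Prime ∧ q ∉ Cfsg.kappa M ∧ q ∉ Cfsg.sigma M} U M ∧
        K ≤ Subgroup.normalizer (U : Set G) ∧
        ∀ k ∈ K, k ≠ 1 → U ⊓ Subgroup.centralizer ({k} : Set G) = ⊥) ∧
      ∀ X : Subgroup G, X ≤ K → (Nat.card X).Prime →
        M ⊓ Subgroup.normalizer (X : Set G) =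
          K ⊔ (Cfsg.sigmaCore M ⊓ Subgroup.centralizer (K : Set G)) ∧
        M ⊓ Subgroup.normalizer (K : Set G) =
          K ⊔ (Cfsg.sigmaCore M ⊓ Subgroup.centralizer (K : Set G)) ∧
        ∀ Mstar : Subgroup G, IsCoatom Mstar → Subgroup.normalizer (X : Set G) ≤ Mstar →
          X ≤ Cfsg.sigmaCore Mstar

/-- first clause of the text of S1431. -/
def T1431a (G : Type u) [Group G] : Prop :=
  ∀ (M : Subgroup G), IsCoatom M → ∀ (K : Subgroup G), Cfsg.IsPiHallOf (Cfsg.kappa M) K M →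
    K ≠ ⊥ →
    ∀ g : G, g ∉ M → (Cfsg.sigmaCore M ⊓ Subgroup.centralizer (K : Set G)) ⊓
      M.map (MulAut.conj g).toMonoidHom = ⊥

/-! ### `κ(M) ⊆ τ₁(M)` -/

theorem mem_of_pow_eq_one_of_le_cyclic [Finite G] {C X : Subgroup G} (hc : IsCyclic C)
    (hXC : X ≤ C) {x : G} (hx : x ∈ C) (hpow : x ^ Nat.card X = 1) : x ∈ X := by
  have := (Cfsg.Agent.Lib.Helper28.mem_iff_pow_card_eq_one_of_isCyclic (C := C)
    (X.subgroupOf C) ⟨x, hx⟩).mpr (by rw [card_subgroupOf hXC]; exact Subtype.ext hpow)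
  exact mem_subgroupOf.mp this

theorem dvd_card_of_hall {π : Set ℕ} {H M : Subgroup G} (h : Cfsg.IsPiHallOf π H M) {p : ℕ}
    (hp : p.Prime) (hpπ : p ∈ π) (hpM : p ∣ Nat.card M) : p ∣ Nat.card H := by
  rw [card_eq_card_mul_relIndex h.1] at hpM
  exact (hp.dvd_mul.mp hpM).resolve_right (h.2.2 p hp hpπ)

theorem ne_bot_of_dvd_card {H : Subgroup G} {p : ℕ} (hp : p.Prime) (h : p ∣ Nat.card H) :
    H ≠ ⊥ := by
  rintro rfl
  rw [card_bot] at h
  exact hp.one_lt.ne' (Nat.dvd_one.mp h)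

theorem kappa_subset_tau1 [Finite G] (hG : Cfsg.IsMinSimpleOddOrder G) (h15 : T1415 G)
    (h30 : T1430 G) {M : Subgroup G} (hM : IsCoatom M) {K : Subgroup G} (hKc : IsCyclic K)
    (hK : Cfsg.IsPiHallOf (Cfsg.kappa M) K M) {p : ℕ} (hp : p ∈ Cfsg.kappa M) :
    p ∈ Cfsg.tau1 M := by
  have hpp : Fact p.Prime := ⟨hp.1⟩
  have hr1 := pRankLE_one_of_kappa hp
  refine ⟨hp.1, hp.2.2.1, hp.2.1, fun hpM' => ?_, hr1⟩
  have ht3 : p ∈ Cfsg.tau3 M := ⟨hp.1, hp.2.2.1, hpM', hr1⟩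
  have hpK : p ∣ Nat.card K := dvd_card_of_hall hK hp.1 hp hp.2.1
  have hK1 : K ≠ ⊥ := ne_bot_of_dvd_card hp.1 hpK
  obtain ⟨E, hE, hKE⟩ := exists_compl_ge hG hM hK.1 (fun q hq hqd => (hK.2.1 q hq hqd).2.2.1)
  have hsolE : Group.IsSolvable E := isSolvable_of_le hE.1 (solvable_of_ne_top hG hM.1)
  obtain ⟨E3, hE3⟩ := Cfsg.Agent.Lib.Helper66.exists_isPiHallOf (Cfsg.tau3 M) E hsolE
  obtain ⟨hE3c, hE3le, hE3n⟩ := (h15 M hM E hE).2.2 E3 hE3
  have hpE3 : p ∣ Nat.card E3 := dvd_card_of_hall hE3 hp.1 ht3 (hpK.trans (card_dvd_of_le hKE))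
  obtain ⟨x0, hx0⟩ := exists_prime_orderOf_dvd_card' (G := K) p hpK
  obtain ⟨x1, hx1⟩ := exists_prime_orderOf_dvd_card' (G := E3) p hpE3
  have hc0 : Nat.card (zpowers (x0 : G)) = p := by rw [Nat.card_zpowers, Subgroup.orderOf_coe, hx0]
  have hc1 : Nat.card (zpowers (x1 : G)) = p := by rw [Nat.card_zpowers, Subgroup.orderOf_coe, hx1]
  have hX1E3 : zpowers (x1 : G) ≤ E3 := zpowers_le.mpr x1.2
  have hp1 : IsPGroup p (zpowers (x1 : G)) := IsPGroup.of_card (n := 1) (by rw [hc1, pow_one])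
  have hp0 : IsPGroup p (zpowers (x0 : G)) := IsPGroup.of_card (n := 1) (by rw [hc0, pow_one])
  -- `E` normalizes `X₁`
  have hEX1 : E ≤ normalizer ((zpowers (x1 : G) : Subgroup G) : Set G) := by
    intro e he
    apply mem_normalizer_of_cj_le'
    intro y hy
    rw [mem_cj] at hy
    have hyE3 : y ∈ E3 := by
      have h1 := (mem_normalizer_iff.mp (hE3n he) (e⁻¹ * y * e)).mp (hX1E3 hy)
      rwa [show e * (e⁻¹ * y * e) * e⁻¹ = y by group] at h1
    apply mem_of_pow_eq_one_of_le_cyclic hE3c hX1E3 hyE3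
    rw [hc1]
    have h2 : (e⁻¹ * y * e) ^ p = 1 := by
      have := pow_card_eq_one' (G := zpowers (x1 : G)) (x := ⟨_, hy⟩)
      rw [hc1] at this
      exact congrArg Subtype.val this
    rw [show e⁻¹ * y * e = e⁻¹ * y * e⁻¹⁻¹ by rw [inv_inv], conj_pow] at h2
    have h3 : y ^ p = e * (e⁻¹ * y ^ p * e⁻¹⁻¹) * e⁻¹ := by group
    rw [h3, h2]
    group
  -- `X₀ = X₁`
  have hX0E : zpowers (x0 : G) ≤ E := (zpowers_le.mpr x0.2).trans hKE
  have hCp : IsPGroup p (zpowers (x0 : G) ⊔ zpowers (x1 : G) : Subgroup G) :=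
    hp0.to_sup_of_normal_right' hp1 (hX0E.trans hEX1)
  have hCM : zpowers (x0 : G) ⊔ zpowers (x1 : G) ≤ M :=
    sup_le (hX0E.trans hE.1) ((hX1E3.trans hE3.1).trans hE.1)
  have hx01 : zpowers (x0 : G) ≠ ⊥ := ne_bot_of_dvd_card hp.1 (by rw [hc0])
  have hCc : IsCyclic ↥(zpowers (x0 : G) ⊔ zpowers (x1 : G) : Subgroup G) := by
    have := Cfsg.Agent.Lib.Helper40.BG12.isCyclic_of_isPGroup_rank_one (G := M)
      (ne_two_of_isPGroup hG hp0 hx01) hr1
      ((zpowers (x0 : G) ⊔ zpowers (x1 : G)).subgroupOf M) (hCp.comap_subtype (K := M))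
    exact isCyclic_of_surjective (subgroupOfEquivOfLe hCM).toMonoidHom
      (subgroupOfEquivOfLe hCM).surjective
  have hX01 : zpowers (x0 : G) = zpowers (x1 : G) := by
    apply Subgroup.eq_of_le_of_card_ge
    · rw [zpowers_le]
      apply mem_of_pow_eq_one_of_le_cyclic hCc le_sup_right
        (mem_sup_left (mem_zpowers _))
      rw [hc1, ← hx0, ← Subgroup.orderOf_coe, pow_orderOf_eq_one]
    · rw [hc0, hc1]
  have hEle : E ≤ K ⊔ (Cfsg.sigmaCore M ⊓ centralizer (K : Set G)) := by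
    rw [← ((h30 M hM K hK hK1).2.2 (zpowers (x0 : G)) (zpowers_le.mpr x0.2)
      (by rw [hc0]; exact hp.1)).1]
    exact le_inf hE.1 (by rw [hX01]; exact hEX1)
  -- `E` is abelian
  have hKn : K ≤ normalizer ((Cfsg.sigmaCore M ⊓ centralizer (K : Set G) : Subgroup G) : Set G) := by
    intro k hk
    rw [mem_normalizer_iff]
    intro c
    constructor
    · intro hc
      have : k * c * k⁻¹ = c := by
        rw [mem_centralizer_iff.mp hc.2 k hk]; group
      rwa [this]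
    · intro hc
      have h1 : k * (k * c * k⁻¹) = (k * c * k⁻¹) * k := mem_centralizer_iff.mp hc.2 k hk
      have : k * c * k⁻¹ = c := by
        have := congrArg (fun t => k⁻¹ * t) h1
        simpa [mul_assoc] using this
      rwa [this] at hc
  have hEab : E ≤ centralizer (E : Set G) := by
    intro a ha
    rw [mem_centralizer_iff]
    intro b hb
    have ha' := hEle ha
    have hb' := hEle hb
    rw [sup_comm, mem_sup_of_le_normalizer hKn] at ha' hb'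
    obtain ⟨c, hc, k, hk, rfl⟩ := ha'
    obtain ⟨c', hc', k', hk', rfl⟩ := hb'
    have e1 : k * c' = c' * k := mem_centralizer_iff.mp hc'.2 k hk
    have e2 : k' * c = c * k' := mem_centralizer_iff.mp hc.2 k' hk'
    have e3 : k * k' = k' * k := congrArg Subtype.val (comm_of_isCyclic hKc ⟨k, hk⟩ ⟨k', hk'⟩)
    have h1 : (c' * k') * (c * k) = (c' * c * c'⁻¹ * c⁻¹) * ((c * k) * (c' * k')) := by
      calc (c' * k') * (c * k) = c' * (k' * c) * k := by group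
        _ = c' * (c * k') * k := by rw [e2]
        _ = c' * c * (k' * k) := by group
        _ = c' * c * (k * k') := by rw [e3]
        _ = (c' * c * c'⁻¹ * c⁻¹) * (c * (c' * k) * k') := by group
        _ = (c' * c * c'⁻¹ * c⁻¹) * (c * (k * c') * k') := by rw [e1]
        _ = (c' * c * c'⁻¹ * c⁻¹) * ((c * k) * (c' * k')) := by group
    have h2 : c' * c * c'⁻¹ * c⁻¹ ∈ E ⊓ Cfsg.sigmaCore M := by
      constructor
      · have : c' * c * c'⁻¹ * c⁻¹ = ((c' * k') * (c * k)) * ((c * k) * (c' * k'))⁻¹ := by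
          rw [h1]; group
        rw [this]
        exact E.mul_mem (E.mul_mem hb ha) (E.inv_mem (E.mul_mem ha hb))
      · exact (Cfsg.sigmaCore M).mul_mem ((Cfsg.sigmaCore M).mul_mem
          ((Cfsg.sigmaCore M).mul_mem hc'.1 hc.1) ((Cfsg.sigmaCore M).inv_mem hc'.1))
          ((Cfsg.sigmaCore M).inv_mem hc.1)
    rw [hE.2.2.1, mem_bot] at h2
    rw [h1, h2, one_mul]
  have hE' : ⁅E, E⁆ = ⊥ := commutator_eq_bot_iff_le_centralizer.mpr hEab
  rw [hE', le_bot_iff] at hE3le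
  exact ne_bot_of_dvd_card hp.1 hpE3 hE3le

end Cfsg.Agent.Lib.Helper28.BG12
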