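import Cfsg.Agent.Lib.Helper68.BG10E
import Cfsg.Agent.Lib.Helper40.BG12a
import Cfsg.Agent.Lib.Helper66.PiHall
import Cfsg.Agent.Lib.Helper31.Nilpotent
import Cfsg.Agent.Lib.Helper28.Rel
import Cfsg.Agent.S1350
import Cfsg.Agent.S1404
import Cfsg.Agent.S1405

/-!
B-G section 12: general facts on `M_σ` and its complements, and Corollary 12.10 (c)-(f)
(statement S1420) from the texts of S1415-S1419.
-/

set_option autoImplicit false

namespace Cfsg.Agent.Lib.Helper28.BG12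

open Subgroup Cfsg.Agent.Lib.Helper30 Cfsg.Agent.Lib.Helper2 Cfsg.Agent.Lib.Helper68
open scoped commutatorElement

universe u

variable {G : Type u} [Group G]

/-! ### texts -/

/-- first part of the text of S1416. -/
def T1416 (G : Type u) [Group G] : Prop :=
  ∀ (M : Subgroup G), IsCoatom M → ∀ (p : ℕ) [Fact p.Prime] (A : Subgroup G),
    (A ≤ M ∧ Cfsg.IsElementaryAbelian p A ∧ Nat.card A = p ^ 2) → centralizer (A : Set G) ≤ M

/-- text of S1415. -/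
def T1415 (G : Type u) [Group G] : Prop :=
  ∀ (M : Subgroup G), IsCoatom M → ∀ (E : Subgroup G), Cfsg.IsComplIn E (Cfsg.sigmaCore M) M →
    Group.IsNilpotent ↥⁅E, E⁆ ∧
      (∀ E₁ : Subgroup G, Cfsg.IsPiHallOf (Cfsg.tau1 M) E₁ E → IsCyclic E₁) ∧
      ∀ E₃ : Subgroup G, Cfsg.IsPiHallOf (Cfsg.tau3 M) E₃ E → IsCyclic E₃ ∧ E₃ ≤ ⁅E, E⁆ ∧
        E ≤ Subgroup.normalizer (E₃ : Set G)

/-- text of S1417. -/
def T1417 (G : Type u) [Group G] : Prop :=
  ∀ (M : Subgroup G), IsCoatom M → ∀ (p : ℕ) [Fact p.Prime], p ∈ Cfsg.tau2 M → ∀ (A : Subgroup G),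
    (A ≤ M ∧ Cfsg.IsElementaryAbelian p A ∧ Nat.card A = p ^ 2) →
    Group.IsNilpotent (Cfsg.sigmaCore M) ∧
      (∀ P : Sylow p M, IsMulCommutative (P : Subgroup M) ∧
        (A ≤ (P : Subgroup M).map M.subtype →
          (∀ x ∈ (P : Subgroup M).map M.subtype, x ^ p = 1 ↔ x ∈ A) ∧
          ¬ Subgroup.normalizer ((((P : Subgroup M).map M.subtype : Subgroup G)) : Set G) ≤ M)) ∧
      M ≤ Subgroup.normalizer ((Cfsg.sigmaCore M ⊔ A : Subgroup G) : Set G) ∧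
      Cfsg.sigmaCore M ⊓ Subgroup.centralizer (A : Set G) = ⊥ ∧
      (∀ Mstar : Subgroup G, IsCoatom Mstar → Mstar ≠ M → A ≤ Mstar → Cfsg.sigmaCore M ⊓ Mstar = ⊥) ∧
      ∃ A₁ : Subgroup G, A₁ ≤ A ∧ Nat.card A₁ = p ∧
        Cfsg.sigmaCore M ⊓ Subgroup.centralizer (A₁ : Set G) = ⊥

/-- text of S1418. -/
def T1418 (G : Type u) [Group G] : Prop :=
  ∀ (M : Subgroup G), IsCoatom M → ∀ (E : Subgroup G), Cfsg.IsComplIn E (Cfsg.sigmaCore M) M →
    ∀ (p : ℕ) [Fact p.Prime], p ∈ Cfsg.tau2 M → ∀ (A : Subgroup G),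
    (A ≤ E ∧ Cfsg.IsElementaryAbelian p A ∧ Nat.card A = p ^ 2) →
    (E ≤ Subgroup.normalizer (A : Set G) ∧ ∀ X : Subgroup G, X ≤ E → Nat.card X = p → X ≤ A) ∧
      (Subgroup.centralizer (A : Set G) ≤ M ⊓ Subgroup.normalizer (A : Set G) ∧
        M ⊓ Subgroup.normalizer (A : Set G) = E ∧
        ¬ Subgroup.normalizer (A : Set G) ≤ M) ∧
      ∀ X : Subgroup G, X ≤ A → Nat.card X = p →
        Cfsg.sigmaCore M ⊓ Subgroup.centralizer (X : Set G) ≠ ⊥ →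
        (Subgroup.centralizer (X : Set G) ≤ M ∧
          ∀ L : Subgroup G, IsCoatom L → Subgroup.centralizer (X : Set G) ≤ L → L = M)

/-- text of S1419. -/
def T1419 (G : Type u) [Group G] : Prop :=
  ∀ (M : Subgroup G), IsCoatom M → ∀ (E : Subgroup G), Cfsg.IsComplIn E (Cfsg.sigmaCore M) M →
    ∀ (p : ℕ) [Fact p.Prime], p ∈ Cfsg.tau2 M →
    (∀ S : Sylow p G, ¬ IsMulCommutative (S : Subgroup G)) → ∀ (A : Subgroup G),
    (A ≤ E ∧ Cfsg.IsElementaryAbelian p A ∧ Nat.card A = p ^ 2) →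
    Cfsg.tau2 M = {p} ∧
      (Nat.card ↥(A ⊓ Subgroup.centralizer (Cfsg.sigmaCore M : Set G)) = p ∧
        Cfsg.fittingOf M = Cfsg.sigmaCore M ⊔ (A ⊓ Subgroup.centralizer (Cfsg.sigmaCore M : Set G))) ∧
      ∀ X : Subgroup G, X ≤ E → Nat.card X = p →
        X ≠ A ⊓ Subgroup.centralizer (Cfsg.sigmaCore M : Set G) →
        Cfsg.sigmaCore M ⊓ Subgroup.centralizer (X : Set G) = ⊥ ∧
          ¬ Subgroup.centralizer (X : Set G) ≤ M

/-! ### general facts -/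

theorem ut [Finite G] (hG : Cfsg.IsMinSimpleOddOrder G) : UT G :=
  fun K h1 h2 h3 => Cfsg.Agent.S1403.result hG K h1 h2 h3

theorem sigmaCore_hall [Finite G] (hG : Cfsg.IsMinSimpleOddOrder G) {M : Subgroup G}
    (hM : IsCoatom M) : Cfsg.IsPiHallOf (Cfsg.sigma M) (Cfsg.sigmaCore M) M :=
  (Cfsg.Agent.S1350.result hG M hM).1

theorem sigmaCore_le (M : Subgroup G) : Cfsg.sigmaCore M ≤ M := map_subtype_le _

theorem le_normalizer_sigmaCore (M : Subgroup G) :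
    M ≤ normalizer (Cfsg.sigmaCore M : Set G) :=
  Cfsg.Agent.Lib.Helper28.le_normalizer_map_subtype (Cfsg.piCore_normal _ _)

theorem alphaCore_le (M : Subgroup G) : Cfsg.alphaCore M ≤ M := map_subtype_le _

/-- a `p`-subgroup of `M`, `p ∈ σ(M)`, lies in `M_σ`. -/
theorem isPGroup_le_sigmaCore [Finite G] (hG : Cfsg.IsMinSimpleOddOrder G) {M : Subgroup G}
    (hM : IsCoatom M) {p : ℕ} [Fact p.Prime] (hp : p ∈ Cfsg.sigma M) {X : Subgroup G} (hXM : X ≤ M)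
    (hX : IsPGroup p X) : X ≤ Cfsg.sigmaCore M := by
  obtain ⟨S, hS⟩ := (hX.comap_subtype (K := M)).exists_le_sylow
  have h1 := sylow_le_piCore_sigma hG (ut hG)
    (fun M hM => (Cfsg.Agent.S1405.result hG M hM).2.2.2.2) hM hp S
  have h2 := Subgroup.map_mono (f := M.subtype) (hS.trans h1)
  rwa [show (X.comap M.subtype).map M.subtype = X from map_subgroupOf_eq_of_le hXM] at h2

theorem card_compl {E S M : Subgroup G} (h : Cfsg.IsComplIn E S M) :
    Nat.card E = S.relIndex M := by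
  have h1 := (isComplement'_of_isComplIn h).index_eq_card
  rw [card_subgroupOf h.1] at h1
  exact h1.symm

theorem card_compl' {E S M : Subgroup G} (h : Cfsg.IsComplIn E S M) :
    Nat.card S = E.relIndex M := by
  have h1 := (isComplement'_of_isComplIn h).symm.index_eq_card
  rw [card_subgroupOf h.2.1] at h1
  exact h1.symm

theorem not_mem_sigma_of_dvd_compl [Finite G] (hG : Cfsg.IsMinSimpleOddOrder G) {M : Subgroup G}
    (hM : IsCoatom M) {E : Subgroup G} (hE : Cfsg.IsComplIn E (Cfsg.sigmaCore M) M) {q : ℕ}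
    (hq : q.Prime) (hqE : q ∣ Nat.card E) : q ∉ Cfsg.sigma M := by
  intro h
  rw [card_compl hE] at hqE
  exact (sigmaCore_hall hG hM).2.2 q hq h hqE

theorem isPiHallOf_compl [Finite G] (hG : Cfsg.IsMinSimpleOddOrder G) {M : Subgroup G}
    (hM : IsCoatom M) {E : Subgroup G} (hE : Cfsg.IsComplIn E (Cfsg.sigmaCore M) M) :
    Cfsg.IsPiHallOf (Cfsg.sigma M)ᶜ E M := by
  refine ⟨hE.1, fun q hq hqE => not_mem_sigma_of_dvd_compl hG hM hE hq hqE, ?_⟩
  intro q hq hqs hqd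
  rw [← card_compl' hE] at hqd
  exact hqs ((sigmaCore_hall hG hM).2.1 q hq hqd)

theorem isComplIn_of_isPiHallOf [Finite G] (hG : Cfsg.IsMinSimpleOddOrder G) {M : Subgroup G}
    (hM : IsCoatom M) {E : Subgroup G} (hE : Cfsg.IsPiHallOf (Cfsg.sigma M)ᶜ E M) :
    Cfsg.IsComplIn E (Cfsg.sigmaCore M) M := by
  have hS := sigmaCore_hall hG hM
  have hcop : (Nat.card E).Coprime (Nat.card (Cfsg.sigmaCore M)) :=
    Nat.coprime_of_dvd (fun k hk h1 h2 => hE.2.1 k hk h1 (hS.2.1 k hk h2))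
  have hcard : Nat.card E * Nat.card (Cfsg.sigmaCore M) = Nat.card M := by
    have h1 := card_eq_card_mul_relIndex hE.1
    have h2 := card_eq_card_mul_relIndex hS.1
    have h3 : Nat.card (Cfsg.sigmaCore M) = E.relIndex M := by
      apply Cfsg.Agent.Lib.Helper66.pi_factorization_unique (π := Cfsg.sigma M)
        (n₁ := (Cfsg.sigmaCore M).relIndex M) (n₂ := Nat.card E)
      · rw [← h2, h1, mul_comm]
      · exact hS.2.1
      · exact hS.2.2
      · intro q hq hqd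
        by_contra hqs
        exact hE.2.2 q hq hqs hqd
      · intro q hq hqs hqd
        exact hE.2.1 q hq hqd hqs
    rw [h3, ← h1]
  have h4 : IsComplement' (E.subgroupOf M) ((Cfsg.sigmaCore M).subgroupOf M) := by
    apply isComplement'_of_coprime
    · rw [card_subgroupOf hE.1, card_subgroupOf hS.1, hcard]
    · rw [card_subgroupOf hE.1, card_subgroupOf hS.1]; exact hcop
  have h5 := isComplIn_of_isComplement' hE.1 h4
  rwa [map_subgroupOf_eq_of_le hS.1] at h5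

/-- every `σ(M)'`-subgroup of `M` lies in a complement of `M_σ`. -/
theorem exists_compl_ge [Finite G] (hG : Cfsg.IsMinSimpleOddOrder G) {M : Subgroup G}
    (hM : IsCoatom M) {X : Subgroup G} (hXM : X ≤ M)
    (hX : ∀ q : ℕ, q.Prime → q ∣ Nat.card X → q ∉ Cfsg.sigma M) :
    ∃ E : Subgroup G, Cfsg.IsComplIn E (Cfsg.sigmaCore M) M ∧ X ≤ E := by
  obtain ⟨H, hH, -, hXH⟩ := Cfsg.Agent.Lib.Helper66.exists_invariant_isPiHallOf_ge
    (π := (Cfsg.sigma M)ᶜ) (A := ⊥) (G := M) (U := X) bot_le (by simp)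
    (solvable_of_ne_top hG hM.1) hXM bot_le hX
  exact ⟨H, isComplIn_of_isPiHallOf hG hM hH, hXH⟩

/-- every `σ(M)'`-subgroup of `M` is `M`-conjugate into a given complement of `M_σ`. -/
theorem exists_cj_le_compl [Finite G] (hG : Cfsg.IsMinSimpleOddOrder G) {M : Subgroup G}
    (hM : IsCoatom M) {E : Subgroup G} (hE : Cfsg.IsComplIn E (Cfsg.sigmaCore M) M)
    {X : Subgroup G} (hXM : X ≤ M)
    (hX : ∀ q : ℕ, q.Prime → q ∣ Nat.card X → q ∉ Cfsg.sigma M) :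
    ∃ m ∈ M, cj m X ≤ E := by
  obtain ⟨H, hH, hXH⟩ := exists_compl_ge hG hM hXM hX
  obtain ⟨g, hg, e⟩ := Cfsg.Agent.Lib.Helper66.isPiHallOf_exists_conj (solvable_of_ne_top hG hM.1)
    (isPiHallOf_compl hG hM hH) (isPiHallOf_compl hG hM hE)
  exact ⟨g, hg, e ▸ cj_mono g hXH⟩

theorem pRankLE_two_of_not_mem_sigma [Finite G] (hG : Cfsg.IsMinSimpleOddOrder G) {M : Subgroup G}
    (hM : IsCoatom M) {q : ℕ} (hq : q.Prime) (hqs : q ∉ Cfsg.sigma M) : Cfsg.PRankLE q 2 M := by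
  by_contra h
  exact hqs (mem_sigma_of_mem_alpha hG (ut hG) hM ⟨hq, h⟩)

theorem exists_ea_sq_of_tau2 [Finite G] {M : Subgroup G} {p : ℕ} [Fact p.Prime]
    (hp : p ∈ Cfsg.tau2 M) :
    ∃ A : Subgroup G, A ≤ M ∧ Cfsg.IsElementaryAbelian p A ∧ Nat.card A = p ^ 2 := by
  obtain ⟨-, -, h2, h1⟩ := hp
  obtain ⟨E, hEM, hE, hc⟩ := exists_elementary_of_not_pRankLE h1
  exact ⟨E, hEM, hE, card_eq_sq h2 hEM hE (by simpa using hc)⟩

theorem prime_dvd_card_isPGroup {p q : ℕ} [hp : Fact p.Prime] {X : Subgroup G} (hX : IsPGroup p X)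
    [Finite X] (hq : q.Prime) (hqd : q ∣ Nat.card X) : q = p := by
  obtain ⟨n, hn⟩ := IsPGroup.iff_card.mp hX
  rw [hn] at hqd
  exact (Nat.prime_dvd_prime_iff_eq hq hp.out).mp (hq.dvd_of_dvd_pow hqd)

theorem exists_ea_sq_in_compl [Finite G] (hG : Cfsg.IsMinSimpleOddOrder G) {M : Subgroup G}
    (hM : IsCoatom M) {E : Subgroup G} (hE : Cfsg.IsComplIn E (Cfsg.sigmaCore M) M) {p : ℕ}
    [Fact p.Prime] (hp : p ∈ Cfsg.tau2 M) :
    ∃ A : Subgroup G, A ≤ E ∧ Cfsg.IsElementaryAbelian p A ∧ Nat.card A = p ^ 2 := by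
  obtain ⟨A, hAM, hA, hc⟩ := exists_ea_sq_of_tau2 hp
  obtain ⟨m, -, hm⟩ := exists_cj_le_compl hG hM hE hAM (fun q hq hqd => by
    rw [prime_dvd_card_isPGroup (ea_isPGroup hA) hq hqd]; exact hp.2.1)
  exact ⟨cj m A, hm, ea_cj hA m, by rw [card_cj, hc]⟩

/-! ### Corollary 12.10 (c), (d), (e) -/

theorem comm_of_isMulCommutative {H : Subgroup G} (h : IsMulCommutative H) {a b : G} (ha : a ∈ H)
    (hb : b ∈ H) : a * b = b * a :=
  congrArg Subtype.val (h.is_comm.comm ⟨a, ha⟩ ⟨b, hb⟩)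

theorem comm_of_isCyclic {H : Type*} [Group H] (h : IsCyclic H) (a b : H) : a * b = b * a := by
  obtain ⟨g, hg⟩ := h.exists_generator
  obtain ⟨i, rfl⟩ := Subgroup.mem_zpowers_iff.mp (hg a)
  obtain ⟨j, rfl⟩ := Subgroup.mem_zpowers_iff.mp (hg b)
  exact zpow_mul_comm g i j

/-- a finite nilpotent group all of whose Sylow subgroups are abelian is abelian. -/
theorem comm_of_nilpotent_of_sylow {N : Type*} [Group N] [Finite N] (hn : Group.IsNilpotent N)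
    (h : ∀ (p : ℕ) [Fact p.Prime] (P : Sylow p N), ∀ a ∈ P, ∀ b ∈ P, a * b = b * a) (a b : N) :
    a * b = b * a := by
  obtain ⟨e⟩ := ((Group.isNilpotent_of_finite_tfae (G := N)).out 0 4).mp hn
  obtain ⟨u, rfl⟩ := e.surjective a
  obtain ⟨v, rfl⟩ := e.surjective b
  rw [← map_mul, ← map_mul]
  congr 1
  funext p P
  have : Fact (p : ℕ).Prime := ⟨Nat.prime_of_mem_primeFactors p.2⟩
  exact Subtype.ext (h p P _ (u p P).2 _ (v p P).2)

theorem ne_two_of_isPGroup [Finite G] (hG : Cfsg.IsMinSimpleOddOrder G) {p : ℕ} [Fact p.Prime]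
    {X : Subgroup G} (hX : IsPGroup p X) (hX1 : X ≠ ⊥) : p ≠ 2 :=
  Cfsg.Agent.Lib.Helper40.BG12.ne_two_of_dvd_odd hG.1
    ((dvd_card_of_isPGroup_ne_bot hX hX1).trans (card_subgroup_dvd_card X))

/-- `p`-subgroups of `M` are abelian for `p ∉ σ(M)`. -/
theorem comm_of_isPGroup_sigma' [Finite G] (hG : Cfsg.IsMinSimpleOddOrder G) (h17 : T1417 G)
    {M : Subgroup G} (hM : IsCoatom M) {p : ℕ} [hpp : Fact p.Prime] (hp : p ∉ Cfsg.sigma M)
    {X : Subgroup G} (hXM : X ≤ M) (hX : IsPGroup p X) {a b : G} (ha : a ∈ X) (hb : b ∈ X) :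
    a * b = b * a := by
  by_cases hX1 : X = ⊥
  · subst hX1
    rw [mem_bot] at ha hb
    rw [ha, hb]
  have hp2 : p ≠ 2 := ne_two_of_isPGroup hG hX hX1
  by_cases h1 : Cfsg.PRankLE p 1 M
  · have hc := Cfsg.Agent.Lib.Helper40.BG12.isCyclic_of_isPGroup_rank_one (G := M) hp2 h1
      (X.subgroupOf M) (hX.comap_subtype (K := M))
    have h2 := comm_of_isCyclic hc ⟨⟨a, hXM ha⟩, mem_subgroupOf.mpr ha⟩
      ⟨⟨b, hXM hb⟩, mem_subgroupOf.mpr hb⟩
    exact congrArg (fun z : ↥(X.subgroupOf M) => ((z : ↥M) : G)) h2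
  · have ht : p ∈ Cfsg.tau2 M :=
      ⟨hpp.out, hp, pRankLE_two_of_not_mem_sigma hG hM hpp.out hp, h1⟩
    obtain ⟨A, hA⟩ := exists_ea_sq_of_tau2 ht
    obtain ⟨S, hS⟩ := (hX.comap_subtype (K := M)).exists_le_sylow
    have h2 := ((h17 M hM p ht A hA).2.1 S).1
    have h3 := comm_of_isMulCommutative h2 (a := ⟨a, hXM ha⟩) (b := ⟨b, hXM hb⟩)
      (hS (mem_subgroupOf.mpr ha)) (hS (mem_subgroupOf.mpr hb))
    exact congrArg Subtype.val h3

/-- B-G 12.10(c). -/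
theorem part_c [Finite G] (hG : Cfsg.IsMinSimpleOddOrder G) (h17 : T1417 G)
    {M : Subgroup G} (hM : IsCoatom M) {N : Subgroup G} (hNM : N ≤ M) (hnil : Group.IsNilpotent N)
    (hσ : ∀ p : ℕ, p.Prime → p ∣ Nat.card N → p ∉ Cfsg.sigma M) : IsMulCommutative N := by
  refine ⟨⟨fun a b => ?_⟩⟩
  apply comm_of_nilpotent_of_sylow hnil
  intro p _ P a ha b hb
  by_cases hP1 : (P : Subgroup N) = ⊥
  · have ha' : a ∈ (P : Subgroup N) := ha
    have hb' : b ∈ (P : Subgroup N) := hb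
    rw [hP1, mem_bot] at ha' hb'
    rw [ha', hb']
  have hpN : p ∣ Nat.card N :=
    (dvd_card_of_isPGroup_ne_bot P.2 hP1).trans (card_subgroup_dvd_card _)
  have := comm_of_isPGroup_sigma' hG h17 hM (hσ p Fact.out hpN)
    (X := (P : Subgroup N).map N.subtype) ((map_subtype_le _).trans hNM) (P.2.map _)
    (mem_map_of_mem _ ha) (mem_map_of_mem _ hb)
  exact Subtype.ext this

/-- B-G 12.10(d). -/
theorem part_d [Finite G] (hG : Cfsg.IsMinSimpleOddOrder G) (h15 : T1415 G) (h17 : T1417 G)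
    {M : Subgroup G} (hM : IsCoatom M) {E : Subgroup G}
    (hE : Cfsg.IsComplIn E (Cfsg.sigmaCore M) M) : IsMulCommutative ↥⁅E, E⁆ := by
  have hle : ⁅E, E⁆ ≤ E := commutator_le_self E
  exact part_c hG h17 hM (hle.trans hE.1) (h15 M hM E hE).1
    (fun p hp hpd => not_mem_sigma_of_dvd_compl hG hM hE hp (hpd.trans (card_dvd_of_le hle)))

/-- a noncyclic `p`-group, `p` odd, contains an elementary abelian subgroup of order `p ^ 2`. -/
theorem exists_ea_sq_of_not_cyclic [Finite G] {p : ℕ} [hpp : Fact p.Prime] (hp2 : p ≠ 2)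
    {P : Subgroup G} (hP : IsPGroup p P) (hnc : ¬ IsCyclic P) :
    ∃ A : Subgroup G, A ≤ P ∧ Cfsg.IsElementaryAbelian p A ∧ Nat.card A = p ^ 2 := by
  have h1 : ¬ Cfsg.PRankLE p 1 P := by
    intro h
    apply hnc
    have hc := Cfsg.Agent.Lib.Helper40.BG12.isCyclic_of_isPGroup_rank_one (G := P) hp2 h ⊤
      (hP.to_subgroup ⊤)
    exact isCyclic_of_surjective (Subgroup.topEquiv (G := ↥P)).toMonoidHom
      (Subgroup.topEquiv (G := ↥P)).surjective
  obtain ⟨E, hEP, hE, hc⟩ := exists_elementary_of_not_pRankLE h1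
  obtain ⟨n, hn⟩ := IsPGroup.iff_card.mp (ea_isPGroup hE)
  have h2 : 2 ≤ n := by
    rw [hn] at hc
    exact (Nat.pow_lt_pow_iff_right hpp.out.one_lt).mp hc
  obtain ⟨K, hK⟩ := Sylow.exists_subgroup_card_pow_prime (G := E) p (n := 2)
    (by rw [hn]; exact pow_dvd_pow p h2)
  refine ⟨K.map E.subtype, (map_subtype_le K).trans hEP, ea_of_le hE (map_subtype_le K), ?_⟩
  rw [card_map_of_injective E.subtype_injective, hK]

/-- B-G 12.10(e). -/
theorem part_e [Finite G] (hG : Cfsg.IsMinSimpleOddOrder G) (h16 : T1416 G)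
    {M : Subgroup G} (hM : IsCoatom M) {p : ℕ} {P : Subgroup G} (hp : p ∈ Cfsg.sigma M)
    (hP : IsPGroup p P) (hPM : P ≤ M) (hnc : ¬ IsCyclic P) : normalizer (P : Set G) ≤ M := by
  have : Fact p.Prime := ⟨hp.1⟩
  have hP1 : P ≠ ⊥ := by
    rintro rfl
    exact hnc inferInstance
  obtain ⟨A, hAP, hA, hc⟩ := exists_ea_sq_of_not_cyclic (ne_two_of_isPGroup hG hP hP1) hP hnc
  rw [(Cfsg.Agent.S1404.result hG M hM p hp P hP hP1 hPM).2]
  exact sup_le inf_le_left ((centralizer_le hAP).trans (h16 M hM p A ⟨hAP.trans hPM, hA, hc⟩))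

/-! ### Corollary 12.10 (f) -/

theorem mem_normalizer_of_cj_le' [Finite G] {g : G} {A : Subgroup G} (h : cj g A ≤ A) :
    g ∈ normalizer (A : Set G) :=
  mem_normalizer_of_cj_eq (Subgroup.eq_of_le_of_card_ge h (by rw [card_cj]))

/-- if `τ₂(M) ≠ {p}`, the Sylow `p`-subgroups of `G` containing `A` are abelian and lie in `E`. -/
theorem exists_abelian_sylow [Finite G] (h18 : T1418 G)
    (h19 : T1419 G) {M : Subgroup G} (hM : IsCoatom M) {E : Subgroup G}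
    (hE : Cfsg.IsComplIn E (Cfsg.sigmaCore M) M) {p : ℕ} [Fact p.Prime] (hp : p ∈ Cfsg.tau2 M)
    (hne : Cfsg.tau2 M ≠ {p}) {A : Subgroup G}
    (hA : A ≤ E ∧ Cfsg.IsElementaryAbelian p A ∧ Nat.card A = p ^ 2) {Y : Subgroup G}
    (hY : IsPGroup p Y) (hAY : A ≤ Y) :
    ∃ P : Subgroup G, IsSylowIn p P ⊤ ∧ Y ≤ P ∧ (∀ a ∈ P, ∀ b ∈ P, a * b = b * a) ∧ P ≤ E := by
  have h1 : ∃ S : Sylow p G, IsMulCommutative (S : Subgroup G) := by
    by_contra h
    push Not at h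
    exact hne (h19 M hM E hE p hp h A hA).1
  obtain ⟨S, hS⟩ := h1
  obtain ⟨P, hP, hYP⟩ := exists_isSylowIn_ge (le_top : Y ≤ ⊤) hY
  obtain ⟨k, -, rfl⟩ := (isSylowIn_top_of_sylow S).conj hP
  have hab : ∀ a ∈ cj k (S : Subgroup G), ∀ b ∈ cj k (S : Subgroup G), a * b = b * a := by
    intro a ha b hb
    rw [mem_cj] at ha hb
    have := comm_of_isMulCommutative hS ha hb
    calc a * b = k * ((k⁻¹ * a * k) * (k⁻¹ * b * k)) * k⁻¹ := by group
      _ = k * ((k⁻¹ * b * k) * (k⁻¹ * a * k)) * k⁻¹ := by rw [this]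
      _ = b * a := by group
  refine ⟨_, hP, hYP, hab, ?_⟩
  have h2 := (h18 M hM E hE p hp A hA).2.1
  rw [← h2.2.1]
  refine le_trans ?_ h2.1
  intro x hx
  rw [mem_centralizer_iff]
  intro a ha
  exact hab a (hYP (hAY ha)) x hx

/-- distinct primes of `τ₂(M)`: the `q`-subgroups of `E` centralize `A_p`. -/
theorem tau2_centralizes [Finite G] (hG : Cfsg.IsMinSimpleOddOrder G) (h17 : T1417 G)
    (h18 : T1418 G) (h19 : T1419 G) {M : Subgroup G} (hM : IsCoatom M) {E : Subgroup G}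
    (hE : Cfsg.IsComplIn E (Cfsg.sigmaCore M) M) {p q : ℕ} [hpp : Fact p.Prime] [hqq : Fact q.Prime]
    (hp : p ∈ Cfsg.tau2 M) (hq : q ∈ Cfsg.tau2 M) (hpq : p ≠ q) {A : Subgroup G}
    (hA : A ≤ E ∧ Cfsg.IsElementaryAbelian p A ∧ Nat.card A = p ^ 2) {R : Subgroup G}
    (hRE : R ≤ E) (hR : IsPGroup q R) : R ≤ centralizer (A : Set G) := by
  have hU := ut hG
  obtain ⟨B, hB⟩ := exists_ea_sq_in_compl hG hM hE hq
  have hnep : Cfsg.tau2 M ≠ {p} := fun h => hpq (by rw [h] at hq; exact hq.symm)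
  have hneq : Cfsg.tau2 M ≠ {q} := fun h => hpq (by rw [h] at hp; exact hp)
  have hAn := (h18 M hM E hE p hp A hA).1.1
  have hBn := (h18 M hM E hE q hq B hB).1.1
  obtain ⟨P, hP, hAP, hPab, hPE⟩ := exists_abelian_sylow h18 h19 hM hE hp hnep hA
    (ea_isPGroup hA.2.1) le_rfl
  obtain ⟨Q, hQ, hRBQ, hQab, hQE⟩ := exists_abelian_sylow h18 h19 hM hE hq hneq hB
    (hR.to_sup_of_normal_right' (ea_isPGroup hB.2.1) (hRE.trans hBn)) le_sup_right
  have hRQ : R ≤ Q := le_sup_left.trans hRBQ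
  have hA1 : A ≠ ⊥ := by
    rintro rfl
    have := hA.2.2
    rw [card_bot] at this
    exact absurd this (Nat.one_lt_pow (by norm_num) hpp.out.one_lt).ne
  have hAtop : A ≠ ⊤ := fun h => hM.1 (top_le_iff.mp (h ▸ hA.1.trans hE.1))
  obtain ⟨L, hL, hNL⟩ := exists_coatom_ge (normalizer_ne_top hG hA1 hAtop)
  have hEL : E ≤ L := hAn.trans hNL
  have hPL : IsSylowIn p P L := IsSylowIn_of_le hP (hPE.trans hEL) le_top
  have hQL : IsSylowIn q Q L := IsSylowIn_of_le hQ (hQE.trans hEL) le_top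
  have hPM : IsSylowIn p P M := IsSylowIn_of_le hP (hPE.trans hE.1) le_top
  have hA' : A ≤ M ∧ Cfsg.IsElementaryAbelian p A ∧ Nat.card A = p ^ 2 :=
    ⟨hA.1.trans hE.1, hA.2⟩
  -- `A = Ω₁(P)`
  have hΩ : ∀ x ∈ P, x ^ p = 1 ↔ x ∈ A := by
    obtain ⟨P', hP'⟩ := hPM.exists_sylow
    have := (((h17 M hM p hp A hA').2.1 P').2 (by rw [hP']; exact hAP)).1
    rwa [hP'] at this
  have hNP : normalizer (P : Set G) ≤ normalizer (A : Set G) := by
    intro g hg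
    apply mem_normalizer_of_cj_le'
    intro x hx
    have hxP : x ∈ P := by
      rw [← cj_eq_of_mem_normalizer hg]
      exact cj_mono g hAP hx
    rw [mem_cj] at hx
    rw [← hΩ x hxP]
    have h1 := hA.2.1.2 _ hx
    rw [show g⁻¹ * x * g = g⁻¹ * x * g⁻¹⁻¹ by rw [inv_inv], conj_pow] at h1
    have h2 : x ^ p = g * (g⁻¹ * x ^ p * g⁻¹⁻¹) * g⁻¹ := by group
    rw [h2, h1]
    group
  have hP1 : P ≠ ⊥ := fun h => hA1 (le_bot_iff.mp (h ▸ hAP))
  have hpL : p ∈ Cfsg.sigma L := mem_sigma_of_normalizer_le hPL hP1 (hNP.trans hNL)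
  -- `[A, B] = 1`
  have hABcop : (Nat.card A).Coprime (Nat.card B) := by
    rw [hA.2.2, hB.2.2]
    exact Nat.Coprime.pow _ _ ((Nat.coprime_primes hpp.out hqq.out).mpr hpq)
  have hAB : A ≤ centralizer (B : Set G) := by
    intro a ha
    rw [mem_centralizer_iff]
    intro b hb
    have h1 : b * a * b⁻¹ * a⁻¹ ∈ A :=
      A.mul_mem ((mem_normalizer_iff.mp (hAn (hB.1 hb)) a).mp ha) (A.inv_mem ha)
    have h2 : b * a * b⁻¹ * a⁻¹ ∈ B := by
      have := B.mul_mem hb ((mem_normalizer_iff.mp (hBn (hA.1 ha)) b⁻¹).mp (B.inv_mem hb))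
      rwa [show b * (a * b⁻¹ * a⁻¹) = b * a * b⁻¹ * a⁻¹ by group] at this
    have h3 : b * a * b⁻¹ * a⁻¹ ∈ A ⊓ B := ⟨h1, h2⟩
    rw [(Subgroup.disjoint_of_coprime_natCard hABcop).eq_bot, mem_bot] at h3
    calc b * a = (b * a * b⁻¹ * a⁻¹) * (a * b) := by group
      _ = a * b := by rw [h3, one_mul]
  -- `q ∈ σ(L)`
  have hqL : q ∈ Cfsg.sigma L := by
    by_contra hqs
    have ht : q ∈ Cfsg.tau2 L := by
      refine ⟨hqq.out, hqs, pRankLE_two_of_not_mem_sigma hG hL hqq.out hqs, ?_⟩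
      apply not_pRankLE_of_elementary (hB.1.trans hEL) hB.2.1
      rw [hB.2.2]
      exact Nat.pow_lt_pow_right hqq.out.one_lt (by norm_num)
    have h1 := (h17 L hL q ht B ⟨hB.1.trans hEL, hB.2⟩).2.2.2.1
    have h2 : A ≤ Cfsg.sigmaCore L ⊓ centralizer (B : Set G) :=
      le_inf (isPGroup_le_sigmaCore hG hL hpL (hA.1.trans hEL) (ea_isPGroup hA.2.1)) hAB
    rw [h1] at h2
    exact hA1 (le_bot_iff.mp h2)
  have hPc : P ≤ ⁅L, L⁆ := sylow_le_commutator_of_mem_sigma hG hU hL hpL hPL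
  have hQc : Q ≤ ⁅L, L⁆ := sylow_le_commutator_of_mem_sigma hG hU hL hqL hQL
  -- `p ∉ α(L)`
  have hpα : p ∉ Cfsg.alpha L := by
    intro h
    obtain ⟨F, -, hF, hc⟩ := exists_elementary_of_not_pRankLE h.2
    obtain ⟨P₂, hP₂, hFP₂⟩ := exists_isSylowIn_ge (le_top : F ≤ ⊤) (ea_isPGroup hF)
    obtain ⟨k, -, rfl⟩ := hP.conj hP₂
    have h1 : cj k⁻¹ F ≤ A := by
      intro x hx
      have hxP : x ∈ P := by
        have := cj_mono k⁻¹ hFP₂ hx
        rwa [cj_inv_cj] at this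
      rw [← hΩ x hxP]
      exact (ea_cj hF k⁻¹).2 x hx
    have h2 := Subgroup.card_le_of_le h1
    rw [card_cj, hA.2.2] at h2
    exact absurd hc (not_lt.mpr h2)
  have hnil := (Cfsg.Agent.S1405.result hG L hL).2.2.2.2
  have hAα : A ⊓ Cfsg.alphaCore L = ⊥ := by
    apply (Subgroup.disjoint_of_coprime_natCard _).eq_bot
    rw [hA.2.2]
    apply Nat.Coprime.pow_left
    rw [Nat.Prime.coprime_iff_not_dvd hpp.out]
    intro hd
    apply hpα
    have : Nat.card (Cfsg.alphaCore L) = Nat.card (Cfsg.piCore (Cfsg.alpha L) ↥L) :=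
      card_map_of_injective L.subtype_injective
    rw [this] at hd
    exact piCore_isPi (Cfsg.alpha L) p hpp.out hd
  intro b hb
  rw [mem_centralizer_iff]
  intro a ha
  have haL : a ∈ ⁅L, L⁆ := hPc (hAP ha)
  have hbL : b ∈ ⁅L, L⁆ := hQc (hRQ hb)
  rw [← map_subtype_commutator] at haL hbL
  obtain ⟨a', ha', rfl⟩ := haL
  obtain ⟨b', hb', rfl⟩ := hbL
  replace ha : (a' : G) ∈ A := ha
  replace hb : (b' : G) ∈ R := hb
  set K := Cfsg.piCore (Cfsg.alpha L) ↥L with hK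
  set N := (commutator ↥L).map (QuotientGroup.mk' K) with hN
  have hoa : ∃ n, orderOf (a' : G) = p ^ n := by
    obtain ⟨n, hn⟩ := (ea_isPGroup hA.2.1) ⟨_, ha⟩
    have h1 : (a' : G) ^ p ^ n = 1 := congrArg Subtype.val hn
    obtain ⟨m, -, hm⟩ := (Nat.dvd_prime_pow hpp.out).mp (orderOf_dvd_of_pow_eq_one h1)
    exact ⟨m, hm⟩
  have hob : ∃ n, orderOf (b' : G) = q ^ n := by
    obtain ⟨n, hn⟩ := hR ⟨_, hb⟩
    have h1 : (b' : G) ^ q ^ n = 1 := congrArg Subtype.val hn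
    obtain ⟨m, -, hm⟩ := (Nat.dvd_prime_pow hqq.out).mp (orderOf_dvd_of_pow_eq_one h1)
    exact ⟨m, hm⟩
  obtain ⟨n₁, hn₁⟩ := hoa
  obtain ⟨n₂, hn₂⟩ := hob
  have hcop : (orderOf (⟨QuotientGroup.mk' K a', mem_map_of_mem _ ha'⟩ : ↥N)).Coprime
      (orderOf (⟨QuotientGroup.mk' K b', mem_map_of_mem _ hb'⟩ : ↥N)) := by
    have e1 : orderOf (⟨QuotientGroup.mk' K a', mem_map_of_mem _ ha'⟩ : ↥N) ∣ p ^ n₁ := by
      rw [← hn₁, Subgroup.orderOf_mk, Subgroup.orderOf_coe]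
      exact orderOf_map_dvd _ a'
    have e2 : orderOf (⟨QuotientGroup.mk' K b', mem_map_of_mem _ hb'⟩ : ↥N) ∣ q ^ n₂ := by
      rw [← hn₂, Subgroup.orderOf_mk, Subgroup.orderOf_coe]
      exact orderOf_map_dvd _ b'
    exact Nat.Coprime.coprime_dvd_left e1 (Nat.Coprime.coprime_dvd_right e2
      (Nat.Coprime.pow _ _ ((Nat.coprime_primes hpp.out hqq.out).mpr hpq)))
  have hcomm := Cfsg.Agent.Lib.Helper31.commute_of_coprime_orderOf ↥N _ _ hcop
  have h1 : QuotientGroup.mk' K a' * QuotientGroup.mk' K b' =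
      QuotientGroup.mk' K b' * QuotientGroup.mk' K a' := congrArg Subtype.val hcomm.eq
  have h2 : a' * b' * a'⁻¹ * b'⁻¹ ∈ K := by
    rw [← QuotientGroup.eq_one_iff]
    change QuotientGroup.mk' K (a' * b' * a'⁻¹ * b'⁻¹) = 1
    rw [map_mul, map_mul, map_mul, h1, map_inv, map_inv]
    group
  have h3 : (a' : G) * b' * (a' : G)⁻¹ * (b' : G)⁻¹ ∈ Cfsg.alphaCore L :=
    ⟨_, h2, by simp⟩
  have h4 : (a' : G) * b' * (a' : G)⁻¹ * (b' : G)⁻¹ ∈ A := by
    have := A.mul_mem ha ((mem_normalizer_iff.mp (hAn (hRE hb)) (a' : G)⁻¹).mp (A.inv_mem ha))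
    rwa [show (a' : G) * ((b' : G) * (a' : G)⁻¹ * (b' : G)⁻¹) =
      (a' : G) * b' * (a' : G)⁻¹ * (b' : G)⁻¹ by group] at this
  have h5 : (a' : G) * b' * (a' : G)⁻¹ * (b' : G)⁻¹ ∈ A ⊓ Cfsg.alphaCore L := ⟨h4, h3⟩
  rw [hAα, mem_bot] at h5
  change (a' : G) * (b' : G) = (b' : G) * (a' : G)
  calc (a' : G) * (b' : G) = ((a' : G) * b' * (a' : G)⁻¹ * (b' : G)⁻¹) * ((b' : G) * a') := by group
    _ = (b' : G) * a' := by rw [h5, one_mul]

/-- a `τ₂(M)`-element `x` of `E` centralizes `A_p` for each prime `p ∣ o(x)`... in fact for every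
`p ∈ τ₂(M)`. -/
theorem tau2_elt_centralizes [Finite G] (hG : Cfsg.IsMinSimpleOddOrder G) (h17 : T1417 G)
    (h18 : T1418 G) (h19 : T1419 G) {M : Subgroup G} (hM : IsCoatom M) {E : Subgroup G}
    (hE : Cfsg.IsComplIn E (Cfsg.sigmaCore M) M) {p : ℕ} [hpp : Fact p.Prime]
    (hp : p ∈ Cfsg.tau2 M) {A : Subgroup G}
    (hA : A ≤ E ∧ Cfsg.IsElementaryAbelian p A ∧ Nat.card A = p ^ 2) {X : Subgroup G}
    (hXE : X ≤ E) (hX : ∀ r : ℕ, r.Prime → r ∣ Nat.card X → r ∈ Cfsg.tau2 M) :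
    X ≤ centralizer (A : Set G) := by
  apply le_of_forall_isSylowIn
  intro r _ hr
  obtain ⟨S, hS⟩ := exists_isSylowIn r X
  refine ⟨S, hS, ?_⟩
  by_cases hrp : r = p
  · subst hrp
    have hAn := (h18 M hM E hE r hp A hA).1.1
    have hSA : IsPGroup r (S ⊔ A : Subgroup G) :=
      hS.isPGroup.to_sup_of_normal_right' (ea_isPGroup hA.2.1) ((hS.le.trans hXE).trans hAn)
    intro s hs
    rw [mem_centralizer_iff]
    intro a ha
    exact comm_of_isPGroup_sigma' hG h17 hM hp.2.1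
      (sup_le ((hS.le.trans hXE).trans hE.1) (hA.1.trans hE.1)) hSA
      (mem_sup_right ha) (mem_sup_left hs)
  · exact tau2_centralizes hG h17 h18 h19 hM hE hp (hX r Fact.out hr) (Ne.symm hrp) hA
      (hS.le.trans hXE) hS.isPGroup

/-- B-G 12.10(f). -/
theorem part_f [Finite G] (hG : Cfsg.IsMinSimpleOddOrder G) (h17 : T1417 G)
    (h18 : T1418 G) (h19 : T1419 G) {M : Subgroup G} (hM : IsCoatom M) {x : G} (hxM : x ∈ M)
    (hx1 : x ≠ 1) (hτ : ∀ p : ℕ, p.Prime → p ∣ orderOf x → p ∈ Cfsg.tau2 M)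
    (hx : x ∈ Cfsg.sigmaHat M) :
    centralizer ({x} : Set G) ≤ M ∧
      ∀ L : Subgroup G, IsCoatom L → centralizer ({x} : Set G) ≤ L → L = M := by
  obtain ⟨-, y, hy, hy1, hxy⟩ := hx
  have hτ' : ∀ r : ℕ, r.Prime → r ∣ Nat.card (zpowers x) → r ∈ Cfsg.tau2 M := by
    intro r hr hrd
    rw [Nat.card_zpowers] at hrd
    exact hτ r hr hrd
  obtain ⟨E, hE, hxE⟩ := exists_compl_ge hG hM (X := zpowers x) (zpowers_le.mpr hxM)
    (fun q hq hqd => (hτ' q hq hqd).2.1)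
  have ho : orderOf x ≠ 1 := fun h => hx1 (orderOf_eq_one_iff.mp h)
  have hpp : Fact (orderOf x).minFac.Prime := ⟨Nat.minFac_prime ho⟩
  have hp := hτ _ hpp.out (Nat.minFac_dvd _)
  obtain ⟨A, hA⟩ := exists_ea_sq_in_compl hG hM hE hp
  have hxA := tau2_elt_centralizes hG h17 h18 h19 hM hE hp hA hxE hτ'
  have hAC : A ≤ centralizer ({x} : Set G) := by
    intro a ha
    rw [mem_centralizer_singleton_iff]
    exact (mem_centralizer_iff.mp (hxA (mem_zpowers x)) a ha)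
  have hyC : y ∈ centralizer ({x} : Set G) := by
    rw [mem_centralizer_singleton_iff]
    exact hxy.symm
  have key : ∀ L : Subgroup G, IsCoatom L → centralizer ({x} : Set G) ≤ L → L = M := by
    intro L hL hCL
    by_contra hne
    have h1 := (h17 M hM _ hp A ⟨hA.1.trans hE.1, hA.2⟩).2.2.2.2.1 L hL hne (hAC.trans hCL)
    have h2 : y ∈ Cfsg.sigmaCore M ⊓ L := ⟨hy, hCL hyC⟩
    rw [h1, mem_bot] at h2
    exact hy1 h2
  refine ⟨?_, key⟩
  obtain ⟨L, hL, hCL⟩ := exists_coatom_ge (centralizer_singleton_ne_top hG hx1)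
  rw [← key L hL hCL]
  exact hCL

/-- statement S1420 from the texts of S1415-S1419. -/
theorem S1420_of [Finite G] (hG : Cfsg.IsMinSimpleOddOrder G) (h15 : T1415 G) (h16 : T1416 G)
    (h17 : T1417 G) (h18 : T1418 G) (h19 : T1419 G)
    (M : Subgroup G) (hM : IsCoatom M) (E : Subgroup G)
    (hE : Cfsg.IsComplIn E (Cfsg.sigmaCore M) M) :
    (∀ N : Subgroup G, N ≤ M → Group.IsNilpotent N →
        (∀ p : ℕ, p.Prime → p ∣ Nat.card N → p ∉ Cfsg.sigma M) → IsMulCommutative N) ∧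
      IsMulCommutative ↥⁅E, E⁆ ∧
      (∀ (p : ℕ) (P : Subgroup G), p ∈ Cfsg.sigma M → IsPGroup p P → P ≤ M → ¬ IsCyclic P →
        Subgroup.normalizer (P : Set G) ≤ M) ∧
      ∀ x ∈ M, x ≠ 1 → (∀ p : ℕ, p.Prime → p ∣ orderOf x → p ∈ Cfsg.tau2 M) →
        x ∈ Cfsg.sigmaHat M →
        Subgroup.centralizer ({x} : Set G) ≤ M ∧
          ∀ L : Subgroup G, IsCoatom L → Subgroup.centralizer ({x} : Set G) ≤ L → L = M :=
  ⟨fun _ hNM hnil hσ => part_c hG h17 hM hNM hnil hσ, part_d hG h15 h17 hM hE,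
    fun _ _ hp hP hPM hnc => part_e hG h16 hM hp hP hPM hnc,
    fun _ hxM hx1 hτ hx => part_f hG h17 h18 h19 hM hxM hx1 hτ hx⟩

end Cfsg.Agent.Lib.Helper28.BG12
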