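import Cfsg.Agent.Lib.Helper28.BG16b

/-!
B-G section 16 (Theorem B) and 14.3: statements S1359, S1361, S1362, S1432 from lower texts.
-/

set_option autoImplicit false

namespace Cfsg.Agent.Lib.Helper28.BG12

open Subgroup Cfsg.Agent.Lib.Helper30 Cfsg.Agent.Lib.Helper2 Cfsg.Agent.Lib.Helper68
open scoped commutatorElement

universe u

variable {G : Type u} [Group G]

/-- statement S1361. -/
theorem S1361_of [Finite G] (hG : Cfsg.IsMinSimpleOddOrder G) (h17 : T1417 G)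
    (h18 : T1418 G) (h19 : T1419 G)
    (M : Subgroup G) (hM : IsCoatom M) (K U : Subgroup G)
    (hKU : Cfsg.IsSigmaDecomposition M K U) (X : Subgroup G) (hXU : X ≤ U) (hX : X ≠ ⊥)
    (hXc : Cfsg.sigmaCore M ⊓ Subgroup.centralizer (X : Set G) ≠ ⊥) :
    Subgroup.centralizer (X : Set G) ≤ M ∧
      ∀ L : Subgroup G, IsCoatom L → Subgroup.centralizer (X : Set G) ≤ L → L = M :=
  uniq_of_sigma'_kappa' hG h17 h18 h19 hM (hXU.trans hKU.compl.1) hX
    (fun _ hr h => not_sigma_of_decomp hG hM hKU hr (h.trans (card_dvd_of_le hXU)))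
    (fun _ hr h => not_kappa_of_decomp hKU hr (h.trans (card_dvd_of_le hXU))) hXc

/-- an element of prime-rank-one order acting with fixed points forces a prime into `κ(M)`. -/
theorem exists_mem_kappa [Finite G] (hG : Cfsg.IsMinSimpleOddOrder G) {M : Subgroup G}
    {e y : G} (heM : e ∈ M) (he1 : e ≠ 1)
    (hτ : ∀ p : ℕ, p.Prime → p ∣ orderOf e → p ∈ Cfsg.tau1 M ∪ Cfsg.tau3 M)
    (hy : y ∈ Cfsg.sigmaCore M) (hy1 : y ≠ 1) (hey : e * y = y * e) :
    (orderOf e).minFac ∈ Cfsg.kappa M := by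
  have ho : orderOf e ≠ 1 := fun h => he1 (orderOf_eq_one_iff.mp h)
  have hpp : Fact (orderOf e).minFac.Prime := ⟨Nat.minFac_prime ho⟩
  have hpd : (orderOf e).minFac ∣ orderOf e := Nat.minFac_dvd _
  have hox : orderOf (e ^ (orderOf e / (orderOf e).minFac)) = (orderOf e).minFac :=
    orderOf_pow_orderOf_div (orderOf_pos e).ne' hpd
  have h1 : (orderOf e).minFac ∉ Cfsg.sigma M ∧ Cfsg.PRankLE (orderOf e).minFac 1 M := by
    rcases hτ _ hpp.out hpd with h | h
    · exact ⟨h.2.1, h.2.2.2.2⟩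
    · exact ⟨h.2.1, h.2.2.2⟩
  exact mem_kappa_of hG h1.1 h1.2 (M.pow_mem heM _) hox hy hy1
    ((Commute.pow_left (show Commute e y from hey) _).eq)

/-- statement S1359. -/
theorem S1359_of [Finite G] (hG : Cfsg.IsMinSimpleOddOrder G) (h15 : T1415 G) (h21 : T1421 G)
    (h30 : T1430 G)
    (M : Subgroup G) (hM : IsCoatom M) (K U : Subgroup G)
    (hKU : Cfsg.IsSigmaDecomposition M K U) :
    IsMulCommutative (Subgroup.closure ((U : Set G) ∩ Cfsg.sigmaHat M)) := by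
  by_cases hK1 : K = ⊥
  · subst hK1
    have hE : Cfsg.IsComplIn U (Cfsg.sigmaCore M) M := by
      have := hKU.compl
      rwa [bot_sup_eq] at this
    have hκ : ∀ p, p ∉ Cfsg.kappa M := by
      intro p hp
      apply hKU.hall.2.2 p hp.1 hp
      rw [relIndex_bot_left]
      exact hp.2.1
    obtain ⟨⟨A₀, -, -, hA₀, hA⟩, -⟩ := h21 M hM U hE (by
      intro e he he1 hτ
      rw [eq_bot_iff]
      rintro y ⟨hy, hyc⟩
      rw [mem_bot]
      by_contra hy1
      exact hκ _ (exists_mem_kappa hG (hE.1 he) he1 hτ hy hy1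
        (mem_centralizer_singleton_iff.mp hyc).symm))
    have hle : closure ((U : Set G) ∩ Cfsg.sigmaHat M) ≤ A₀ := by
      rw [closure_le]
      rintro a ⟨haU, -, y, hy, hy1, hay⟩
      exact hA y hy hy1 ⟨haU, mem_centralizer_singleton_iff.mpr hay⟩
    exact ⟨⟨fun a b => Subtype.ext (comm_of_isMulCommutative hA₀ (hle a.2) (hle b.2))⟩⟩
  · have hab := (decomp_good hG h15 h30 hM hKU hK1).1
    have hle : closure ((U : Set G) ∩ Cfsg.sigmaHat M) ≤ U := by
      rw [closure_le]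
      exact Set.inter_subset_left
    exact ⟨⟨fun a b => Subtype.ext (hab _ (hle a.2) _ (hle b.2))⟩⟩

/-- the data attached to an element of `A(M) - M_σ`. -/
theorem uniq_of_mem_sigmaA [Finite G] (hG : Cfsg.IsMinSimpleOddOrder G) (h17 : T1417 G)
    (h18 : T1418 G) (h19 : T1419 G) {M K U : Subgroup G} (hM : IsCoatom M)
    (hKU : Cfsg.IsSigmaDecomposition M K U) {a : G}
    (ha : a ∈ Cfsg.sigmaA M U \ (Cfsg.sigmaCore M : Set G)) :
    centralizer ((zpowers (a ^ Nat.card (Cfsg.sigmaCore M)) : Subgroup G) : Set G) ≤ M ∧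
    ∀ L : Subgroup G, IsCoatom L →
      centralizer ((zpowers (a ^ Nat.card (Cfsg.sigmaCore M)) : Subgroup G) : Set G) ≤ L →
      L = M := by
  obtain ⟨⟨⟨haM, y, hy, hy1, hay⟩, haW⟩, haS⟩ := ha
  have hS := sigmaCore_hall hG hM
  set n := Nat.card (Cfsg.sigmaCore M) with hn
  have hUM : U ≤ M := hKU.compl.1
  have hb1 : a ^ n ≠ 1 := by
    intro h
    apply haS
    have hcop : (orderOf a).Coprime ((Cfsg.sigmaCore M).relIndex M) :=
      Nat.Coprime.coprime_dvd_left (orderOf_dvd_of_pow_eq_one h)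
        (Nat.coprime_of_dvd (fun k hk c d => hS.2.2 k hk (hS.2.1 k hk c) d))
    have hnorm : ((Cfsg.sigmaCore M).subgroupOf M).Normal :=
      (normal_subgroupOf_iff_le_normalizer hS.1).mpr (le_normalizer_sigmaCore M)
    have := Cfsg.Agent.Lib.Helper40.BG12.mem_of_normal_of_coprime
      (N := (Cfsg.sigmaCore M).subgroupOf M) (x := ⟨a, haM⟩) (by
        rw [Subgroup.orderOf_mk]; exact hcop)
    exact mem_subgroupOf.mp this
  have hbU : orderOf (a ^ n) ∣ Nat.card U := by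
    apply orderOf_dvd_of_pow_eq_one
    rw [← pow_mul]
    have h1 : Nat.card (Cfsg.sigmaCore M ⊔ U : Subgroup G) ∣ n * Nat.card U :=
      Cfsg.Agent.Lib.Helper27.card_sup_dvd_mul (hUM.trans (le_normalizer_sigmaCore M))
    have h2 : a ^ Nat.card (Cfsg.sigmaCore M ⊔ U : Subgroup G) = 1 := by
      have haW' : a ∈ Cfsg.sigmaCore M ⊔ U := by rw [sup_comm]; exact haW
      exact congrArg Subtype.val
        (pow_card_eq_one' (G := (Cfsg.sigmaCore M ⊔ U : Subgroup G)) (x := ⟨a, haW'⟩))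
    obtain ⟨t, ht⟩ := h1
    rw [ht, pow_mul, h2, one_pow]
  refine uniq_of_sigma'_kappa' hG h17 h18 h19 hM (zpowers_le.mpr (M.pow_mem haM n))
    (by rwa [Ne, zpowers_eq_bot])
    (fun r hr h => not_sigma_of_decomp hG hM hKU hr (by
      rw [Nat.card_zpowers] at h; exact h.trans hbU))
    (fun r hr h => not_kappa_of_decomp hKU hr (by
      rw [Nat.card_zpowers] at h; exact h.trans hbU)) ?_
  intro hbot
  have h1 : y ∈ Cfsg.sigmaCore M ⊓ centralizer ((zpowers (a ^ n) : Subgroup G) : Set G) := by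
    refine mem_inf.mpr ⟨hy, ?_⟩
    rw [mem_centralizer_iff]
    intro z hz
    obtain ⟨k, rfl⟩ := mem_zpowers_iff.mp hz
    exact (((Commute.pow_left (show Commute a y from hay) n).zpow_left k).eq)
  rw [hbot, mem_bot] at h1
  exact hy1 h1

theorem conj_mem_sigmaA [Finite G] (hG : Cfsg.IsMinSimpleOddOrder G) (h15 : T1415 G)
    (h30 : T1430 G) {M K U : Subgroup G} (hM : IsCoatom M)
    (hKU : Cfsg.IsSigmaDecomposition M K U) {m a : G} (hm : m ∈ M)
    (ha : a ∈ Cfsg.sigmaA M U \ (Cfsg.sigmaCore M : Set G)) :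
    m * a * m⁻¹ ∈ Cfsg.sigmaA M U \ (Cfsg.sigmaCore M : Set G) := by
  obtain ⟨⟨⟨haM, y, hy, hy1, hay⟩, haW⟩, haS⟩ := ha
  have hnS := le_normalizer_sigmaCore M hm
  refine ⟨⟨⟨M.mul_mem (M.mul_mem hm haM) (M.inv_mem hm), m * y * m⁻¹,
    (mem_normalizer_iff.mp hnS y).mp hy, by rwa [Ne, conj_eq_one_iff], ?_⟩, ?_⟩, ?_⟩
  · calc m * a * m⁻¹ * (m * y * m⁻¹) = m * (a * y) * m⁻¹ := by group
      _ = m * (y * a) * m⁻¹ := by rw [hay]
      _ = m * y * m⁻¹ * (m * a * m⁻¹) := by group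
  · exact (mem_normalizer_iff.mp (le_normalizer_U_sup hG h15 h30 hM hKU hm) a).mp haW
  · intro h
    exact haS ((mem_normalizer_iff.mp hnS a).mpr h)

/-- statement S1362. -/
theorem S1362_of [Finite G] (hG : Cfsg.IsMinSimpleOddOrder G) (h15 : T1415 G) (h17 : T1417 G)
    (h18 : T1418 G) (h19 : T1419 G) (h30 : T1430 G)
    (M : Subgroup G) (hM : IsCoatom M) (K U : Subgroup G)
    (hKU : Cfsg.IsSigmaDecomposition M K U) :
    Cfsg.IsTISubset (Cfsg.sigmaA M U \ (Cfsg.sigmaCore M : Set G)) := by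
  intro g hg a ha hga
  exfalso
  apply hg
  have hgM : g ∈ M := by
    apply mem_of_cj_eq hG hM
    apply (uniq_of_mem_sigmaA hG h17 h18 h19 hM hKU hga).2 _ (isCoatom_cj hM g)
    have h1 : zpowers ((g * a * g⁻¹) ^ Nat.card (Cfsg.sigmaCore M)) =
        cj g (zpowers (a ^ Nat.card (Cfsg.sigmaCore M))) := by
      rw [conj_pow, cj, MonoidHom.map_zpowers]
      rfl
    rw [h1, centralizer_cj]
    exact cj_mono g (uniq_of_mem_sigmaA hG h17 h18 h19 hM hKU ha).1
  rw [mem_set_normalizer_iff]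
  intro h
  constructor
  · exact conj_mem_sigmaA hG h15 h30 hM hKU hgM
  · intro hh
    have := conj_mem_sigmaA hG h15 h30 hM hKU (M.inv_mem hgM) hh
    rwa [show g⁻¹ * (g * h * g⁻¹) * g⁻¹⁻¹ = h by group] at this

/-! ### B-G 14.3 (statement S1432) -/

/-- all primes of `τ₂(M)` lie in `σ(L)` for a single maximal subgroup `L`. -/
theorem exists_coatom_tau2_le_sigma [Finite G] (hG : Cfsg.IsMinSimpleOddOrder G) (h17 : T1417 G)
    (h18 : T1418 G) (h19 : T1419 G) {M : Subgroup G} (hM : IsCoatom M) {p : ℕ}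
    [hpp : Fact p.Prime] (hp : p ∈ Cfsg.tau2 M) :
    ∃ L : Subgroup G, IsCoatom L ∧ ∀ q ∈ Cfsg.tau2 M, q ∈ Cfsg.sigma L := by
  obtain ⟨E, hE, -⟩ := exists_compl_ge hG hM (X := ⊥) bot_le (fun q hq hqd => by
    rw [card_bot] at hqd
    exact absurd (Nat.dvd_one.mp hqd) hq.one_lt.ne')
  obtain ⟨A, hA⟩ := exists_ea_sq_in_compl hG hM hE hp
  have hA1 : A ≠ ⊥ := by
    rintro rfl
    have := hA.2.2
    rw [card_bot] at this
    exact absurd this (Nat.one_lt_pow (by norm_num) hpp.out.one_lt).ne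
  by_cases hne : Cfsg.tau2 M = {p}
  · obtain ⟨S, hS, hAS⟩ := exists_isSylowIn_ge (le_top : A ≤ ⊤) (ea_isPGroup hA.2.1)
    have hS1 : S ≠ ⊥ := fun h => hA1 (le_bot_iff.mp (h ▸ hAS))
    obtain ⟨L, hL, -, -, hpL⟩ := exists_coatom_of_sylow hG hS hS1
    refine ⟨L, hL, fun q hq => ?_⟩
    rw [hne] at hq
    have : q = p := hq
    rw [this]; exact hpL
  have hAn := (h18 M hM E hE p hp A hA).1.1
  obtain ⟨P, hP, hAP, hPab, hPE⟩ := exists_abelian_sylow h18 h19 hM hE hp hne hA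
    (ea_isPGroup hA.2.1) le_rfl
  have hAtop : A ≠ ⊤ := fun h => hM.1 (top_le_iff.mp (h ▸ hA.1.trans hE.1))
  obtain ⟨L, hL, hNL⟩ := exists_coatom_ge (normalizer_ne_top hG hA1 hAtop)
  have hEL : E ≤ L := hAn.trans hNL
  have hPL : IsSylowIn p P L := IsSylowIn_of_le hP (hPE.trans hEL) le_top
  have hPM : IsSylowIn p P M := IsSylowIn_of_le hP (hPE.trans hE.1) le_top
  have hA' : A ≤ M ∧ Cfsg.IsElementaryAbelian p A ∧ Nat.card A = p ^ 2 :=
    ⟨hA.1.trans hE.1, hA.2⟩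
  have hΩ : ∀ x ∈ P, x ^ p = 1 ↔ x ∈ A := by
    obtain ⟨P', hP'⟩ := hPM.exists_sylow
    have := (((h17 M hM p hp A hA').2.1 P').2 (by rw [hP']; exact hAP)).1
    rwa [hP'] at this
  have hNP : normalizer (P : Set G) ≤ normalizer (A : Set G) := by
    intro g hg
    apply mem_normalizer_of_cj_le'
    intro x hx
    have hxP : x ∈ P := by
      rw [← cj_eq_of_mem_normalizer hg]
      exact cj_mono g hAP hx
    rw [mem_cj] at hx
    rw [← hΩ x hxP]
    have h1 := hA.2.1.2 _ hx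
    rw [show g⁻¹ * x * g = g⁻¹ * x * g⁻¹⁻¹ by rw [inv_inv], conj_pow] at h1
    have h2 : x ^ p = g * (g⁻¹ * x ^ p * g⁻¹⁻¹) * g⁻¹ := by group
    rw [h2, h1]
    group
  have hP1 : P ≠ ⊥ := fun h => hA1 (le_bot_iff.mp (h ▸ hAP))
  have hpL : p ∈ Cfsg.sigma L := mem_sigma_of_normalizer_le hPL hP1 (hNP.trans hNL)
  refine ⟨L, hL, fun q hq => ?_⟩
  by_cases hqp : q = p
  · rw [hqp]; exact hpL
  have hqq : Fact q.Prime := ⟨hq.1⟩
  obtain ⟨B, hB⟩ := exists_ea_sq_in_compl hG hM hE hq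
  have hBn := (h18 M hM E hE q hq B hB).1.1
  have hABcop : (Nat.card A).Coprime (Nat.card B) := by
    rw [hA.2.2, hB.2.2]
    exact Nat.Coprime.pow _ _ ((Nat.coprime_primes hpp.out hqq.out).mpr (Ne.symm hqp))
  have hAB : A ≤ centralizer (B : Set G) := by
    intro a ha
    rw [mem_centralizer_iff]
    intro b hb
    have h1 : b * a * b⁻¹ * a⁻¹ ∈ A :=
      A.mul_mem ((mem_normalizer_iff.mp (hAn (hB.1 hb)) a).mp ha) (A.inv_mem ha)
    have h2 : b * a * b⁻¹ * a⁻¹ ∈ B := by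
      have := B.mul_mem hb ((mem_normalizer_iff.mp (hBn (hA.1 ha)) b⁻¹).mp (B.inv_mem hb))
      rwa [show b * (a * b⁻¹ * a⁻¹) = b * a * b⁻¹ * a⁻¹ by group] at this
    have h3 : b * a * b⁻¹ * a⁻¹ ∈ A ⊓ B := ⟨h1, h2⟩
    rw [(Subgroup.disjoint_of_coprime_natCard hABcop).eq_bot, mem_bot] at h3
    calc b * a = (b * a * b⁻¹ * a⁻¹) * (a * b) := by group
      _ = a * b := by rw [h3, one_mul]
  by_contra hqs
  have ht : q ∈ Cfsg.tau2 L := by
    refine ⟨hqq.out, hqs, pRankLE_two_of_not_mem_sigma hG hL hqq.out hqs, ?_⟩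
    apply not_pRankLE_of_elementary (hB.1.trans hEL) hB.2.1
    rw [hB.2.2]
    exact Nat.pow_lt_pow_right hqq.out.one_lt (by norm_num)
  have h1 := (h17 L hL q ht B ⟨hB.1.trans hEL, hB.2⟩).2.2.2.1
  have h2 : A ≤ Cfsg.sigmaCore L ⊓ centralizer (B : Set G) :=
    le_inf (isPGroup_le_sigmaCore hG hL hpL (hA.1.trans hEL) (ea_isPGroup hA.2.1)) hAB
  rw [h1] at h2
  exact hA1 (le_bot_iff.mp h2)

/-- statement S1432. -/
theorem S1432_of [Finite G] (hG : Cfsg.IsMinSimpleOddOrder G) (h17 : T1417 G)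
    (h18 : T1418 G) (h19 : T1419 G) (h30 : T1430 G) (h31 : T1431a G)
    (M : Subgroup G) (hM : IsCoatom M) (x : G) (hx : x ∈ Cfsg.sigmaCore M) (hx1 : x ≠ 1) (x' : G)
    (hx' : x' ∈ M ⊓ Subgroup.centralizer ({x} : Set G)) (hx'1 : x' ≠ 1)
    (hσ : ∀ p : ℕ, p.Prime → p ∣ orderOf x' → p ∉ Cfsg.sigma M) :
    ((∀ p : ℕ, p.Prime → p ∣ orderOf x' → p ∈ Cfsg.kappa M) ∧
        Subgroup.centralizer ({x} : Set G) ≤ M) ∨
      ((∀ p : ℕ, p.Prime → p ∣ orderOf x' → p ∈ Cfsg.tau2 M) ∧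
        (∃ L : Subgroup G, IsCoatom L ∧ ∀ p : ℕ, p.Prime → p ∣ orderOf x' → p ∈ Cfsg.sigma L) ∧
        (Subgroup.centralizer ({x'} : Set G) ≤ M ∧
          ∀ L : Subgroup G, IsCoatom L → Subgroup.centralizer ({x'} : Set G) ≤ L → L = M)) := by
  have hs := solvable_of_ne_top hG hM.1
  have hxx' : x' * x = x * x' := mem_centralizer_singleton_iff.mp hx'.2
  by_cases hk : ∃ r : ℕ, r.Prime ∧ r ∣ orderOf x' ∧ r ∈ Cfsg.kappa M
  · left
    obtain ⟨r, hr, hrd, hrk⟩ := hk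
    have hoy : orderOf (x' ^ (orderOf x' / r)) = r :=
      orderOf_pow_orderOf_div (orderOf_pos x').ne' hrd
    set y := x' ^ (orderOf x' / r) with hy
    have hyM : y ∈ M := M.pow_mem hx'.1 _
    have hcy : Nat.card (zpowers y) = r := by rw [Nat.card_zpowers, hoy]
    obtain ⟨K, hK, -, hyK⟩ := Cfsg.Agent.Lib.Helper66.exists_invariant_isPiHallOf_ge
      (π := Cfsg.kappa M) (A := ⊥) (G := M) (U := zpowers y) bot_le (by simp) hs
      (zpowers_le.mpr hyM) bot_le (fun q hq hqd => by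
        rw [hcy] at hqd
        rw [(Nat.prime_dvd_prime_iff_eq hq hr).mp hqd]; exact hrk)
    have hy1 : y ≠ 1 := by
      intro h
      rw [h, orderOf_one] at hoy
      exact hr.one_lt.ne hoy
    have hK1 : K ≠ ⊥ := by
      rintro rfl
      exact hy1 (by simpa using hyK (mem_zpowers y))
    have h3 := ((h30 M hM K hK hK1).2.2 (zpowers y) hyK (by rw [hcy]; exact hr)).1
    have hx'y : Commute x' y := (Commute.refl x').pow_right _
    have hx'N : x' ∈ M ⊓ normalizer ((zpowers y : Subgroup G) : Set G) := by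
      refine mem_inf.mpr ⟨hx'.1, centralizer_le_normalizer _ ?_⟩
      rw [mem_centralizer_iff]
      intro z hz
      obtain ⟨n, rfl⟩ := mem_zpowers_iff.mp hz
      exact ((hx'y.zpow_right n).eq).symm
    rw [h3] at hx'N
    have hxKs : x ∈ Cfsg.sigmaCore M ⊓ centralizer (K : Set G) := by
      rw [← (h30 M hM K hK hK1).1 y (hyK (mem_zpowers y)) hy1]
      refine mem_inf.mpr ⟨hx, ?_⟩
      rw [mem_centralizer_singleton_iff]
      exact ((Commute.pow_left (show Commute x' x from hxx') _).eq).symm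
    constructor
    · intro p hp hpd
      have hKn : K ≤ normalizer ((Cfsg.sigmaCore M ⊓ centralizer (K : Set G) : Subgroup G) :
          Set G) := le_normalizer_inf (hK.1.trans (le_normalizer_sigmaCore M))
            (le_normalizer.trans (normalizer_le_normalizer_centralizer K))
      have h4 : p ∣ Nat.card (Cfsg.sigmaCore M ⊓ centralizer (K : Set G) ⊔ K : Subgroup G) := by
        rw [sup_comm]
        exact hpd.trans (orderOf_dvd_natCard (⟨x', hx'N⟩ :
          ↥(K ⊔ (Cfsg.sigmaCore M ⊓ centralizer (K : Set G)))) |> fun h => by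
            rwa [Subgroup.orderOf_mk] at h)
      rcases prime_dvd_card_sup hKn hp h4 with h | h
      · exact absurd ((sigmaCore_hall hG hM).2.1 p hp (h.trans (card_dvd_of_le inf_le_left)))
          (hσ p hp hpd)
      · exact hK.2.1 p hp h
    · intro c hc
      by_contra hcM
      have h5 := h31 M hM K hK hK1 c hcM
      have h6 : x ∈ (Cfsg.sigmaCore M ⊓ centralizer (K : Set G)) ⊓
          M.map (MulAut.conj c).toMonoidHom := by
        refine mem_inf.mpr ⟨hxKs, ⟨x, sigmaCore_le M hx, ?_⟩⟩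
        have hcx : c * x = x * c := mem_centralizer_singleton_iff.mp hc
        change c * x * c⁻¹ = x
        rw [hcx]; group
      rw [h5, mem_bot] at h6
      exact hx1 h6
  · right
    push Not at hk
    have hz1 : zpowers x' ≠ ⊥ := by rwa [Ne, zpowers_eq_bot]
    have hτ := tau2_of_not_kappa hG hM (X := zpowers x') (zpowers_le.mpr hx'.1)
      (fun r hr h => hσ r hr (by rwa [Nat.card_zpowers] at h))
      (fun r hr h => hk r hr (by rwa [Nat.card_zpowers] at h)) (by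
        intro hbot
        have h1 : x ∈ Cfsg.sigmaCore M ⊓ centralizer ((zpowers x' : Subgroup G) : Set G) := by
          refine mem_inf.mpr ⟨hx, ?_⟩
          rw [mem_centralizer_iff]
          intro z hz
          obtain ⟨n, rfl⟩ := mem_zpowers_iff.mp hz
          exact ((show Commute x' x from hxx').zpow_left n).eq
        rw [hbot, mem_bot] at h1
        exact hx1 h1)
    have hτ' : ∀ p : ℕ, p.Prime → p ∣ orderOf x' → p ∈ Cfsg.tau2 M := fun p hp h =>
      hτ p hp (by rwa [Nat.card_zpowers])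
    refine ⟨hτ', ?_, part_f hG h17 h18 h19 hM hx'.1 hx'1 hτ' ⟨hx'.1, x, hx, hx1, hxx'⟩⟩
    have ho : orderOf x' ≠ 1 := fun h => hx'1 (orderOf_eq_one_iff.mp h)
    have hpp : Fact (orderOf x').minFac.Prime := ⟨Nat.minFac_prime ho⟩
    obtain ⟨L, hL, hLσ⟩ := exists_coatom_tau2_le_sigma hG h17 h18 h19 hM
      (hτ' _ hpp.out (Nat.minFac_dvd _))
    exact ⟨L, hL, fun p hp h => hLσ p (hτ' p hp h)⟩

end Cfsg.Agent.Lib.Helper28.BG12
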