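import Cfsg.Agent.Lib.Helper28.BGZ3
import Cfsg.Agent.S1416
import Cfsg.Agent.S1417
import Cfsg.Agent.S1418
import Cfsg.Agent.S1378
import Cfsg.Agent.S1432
import Cfsg.Agent.S1430
import Cfsg.Agent.S1431
import Cfsg.Agent.S1377

/-!
B-G section 14: the structure theorem for `P`-pairs with the texts discharged by the statements.
-/

set_option autoImplicit false

namespace Cfsg.Agent.Lib.Helper28.BGZ

open Subgroup Cfsg.Agent.Lib.Helper30

universe u

variable {G : Type u} [Group G]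

theorem tz [Finite G] (hG : Cfsg.IsMinSimpleOddOrder G) : TZ G where
  T :=
    { h16 := fun M hM p _ A hA => (Cfsg.Agent.S1416.result hG M hM p A hA).1
      h17 := fun M hM p _ hp A hA => Cfsg.Agent.S1417.result hG M hM p hp A hA
      h18 := fun M hM E hE p _ hp A hA => Cfsg.Agent.S1418.result hG M hM E hE p hp A hA
      h78 := (Cfsg.Agent.S1378.result hG).2
      h32 := fun M hM x hx hx1 x' hx' hx'1 hσ =>
        Cfsg.Agent.S1432.result hG M hM x hx hx1 x' hx' hx'1 hσ }
  h30 := fun M hM K hK hK1 => Cfsg.Agent.S1430.result hG M hM K hK hK1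
  h31 := fun M hM K hK hK1 => Cfsg.Agent.S1431.result hG M hM K hK hK1

theorem t1377 [Finite G] (hG : Cfsg.IsMinSimpleOddOrder G) : T1377 G :=
  fun M hM => Cfsg.Agent.S1377.result hG M hM

/-- `BGZ.main` with all texts discharged. -/
theorem main' [Finite G] (hG : Cfsg.IsMinSimpleOddOrder G) {M K : Subgroup G} (P : PPair M K) :
    IsCyclic K ∧ ∃ N : Subgroup G, PPair N (Ks M K) ∧ Ks N (Ks M K) = K ∧
      M ⊓ N = K ⊔ Ks M K ∧ (∀ g : G, N ≠ cj g M) ∧ (¬ IsP1 M ∨ ¬ IsP1 N) :=
  main hG (tz hG) (t1377 hG) P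

end Cfsg.Agent.Lib.Helper28.BGZ
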