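import Cfsg.Agent.Lib.Helper28.BG16a

/-!
B-G section 16 (Theorems A, B), continued: the factorisation `M = K U M_σ`.
-/

set_option autoImplicit false

namespace Cfsg.Agent.Lib.Helper28.BG12

open Subgroup Cfsg.Agent.Lib.Helper30 Cfsg.Agent.Lib.Helper2 Cfsg.Agent.Lib.Helper68
open scoped commutatorElement

universe u

variable {G : Type u} [Group G]

theorem prime_dvd_card_sup [Finite G] {X Y : Subgroup G} (hn : Y ≤ normalizer (X : Set G)) {q : ℕ}
    (hq : q.Prime) (h : q ∣ Nat.card (X ⊔ Y : Subgroup G)) : q ∣ Nat.card X ∨ q ∣ Nat.card Y :=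
  hq.dvd_mul.mp (h.trans (Cfsg.Agent.Lib.Helper27.card_sup_dvd_mul hn))

theorem not_sigma_of_decomp [Finite G] (hG : Cfsg.IsMinSimpleOddOrder G) {M K U : Subgroup G}
    (hM : IsCoatom M) (D : Cfsg.IsSigmaDecomposition M K U) {r : ℕ} (hr : r.Prime)
    (hrU : r ∣ Nat.card U) : r ∉ Cfsg.sigma M := by
  intro h
  rw [card_compl D.compl] at hrU
  exact (sigmaCore_hall hG hM).2.2 r hr h (hrU.trans (relIndex_dvd_of_le_left M le_sup_right))

theorem not_kappa_of_decomp {M K U : Subgroup G}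
    (D : Cfsg.IsSigmaDecomposition M K U) {r : ℕ} (hr : r.Prime)
    (hrU : r ∣ Nat.card U) : r ∉ Cfsg.kappa M := by
  intro h
  rw [card_compl D.compl] at hrU
  exact D.hall.2.2 r hr h (hrU.trans (relIndex_dvd_of_le_left M le_sup_left))

/-- `K M_σ` is a Hall `(κ ∪ σ)`-subgroup of `M`. -/
theorem isPiHallOf_K_sup [Finite G] (hG : Cfsg.IsMinSimpleOddOrder G) {M K : Subgroup G}
    (hM : IsCoatom M) (hK : Cfsg.IsPiHallOf (Cfsg.kappa M) K M) :
    Cfsg.IsPiHallOf (Cfsg.kappa M ∪ Cfsg.sigma M) (K ⊔ Cfsg.sigmaCore M) M := by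
  have hS := sigmaCore_hall hG hM
  refine ⟨sup_le hK.1 hS.1, ?_, ?_⟩
  · intro q hq hqd
    rw [sup_comm] at hqd
    rcases prime_dvd_card_sup (hK.1.trans (le_normalizer_sigmaCore M)) hq hqd with h | h
    · exact Or.inr (hS.2.1 q hq h)
    · exact Or.inl (hK.2.1 q hq h)
  · rintro q hq (h | h) hqd
    · exact hK.2.2 q hq h (hqd.trans (relIndex_dvd_of_le_left M le_sup_left))
    · exact hS.2.2 q hq h (hqd.trans (relIndex_dvd_of_le_left M le_sup_right))

/-- the decomposition provided by the text of S1430. -/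
theorem exists_good_decomposition [Finite G] (hG : Cfsg.IsMinSimpleOddOrder G) (h30 : T1430 G)
    {M K : Subgroup G} (hM : IsCoatom M) (hKc : IsCyclic K)
    (hK : Cfsg.IsPiHallOf (Cfsg.kappa M) K M) (hK1 : K ≠ ⊥) :
    ∃ U : Subgroup G, Cfsg.IsSigmaDecomposition M K U ∧ IsMulCommutative U ∧
      ∀ k ∈ K, k ≠ 1 → U ⊓ centralizer ({k} : Set G) = ⊥ := by
  obtain ⟨U, hUab, hUH, hKU, hreg⟩ := (h30 M hM K hK hK1).2.1
  refine ⟨U, ⟨hKc, hK, ?_, hKU⟩, hUab, hreg⟩
  apply isComplIn_of_hall_compl (isPiHallOf_K_sup hG hM hK)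
  refine ⟨hUH.1, ?_, ?_⟩
  · rintro q hq hqd (h | h)
    · exact (hUH.2.1 q hq hqd).2.1 h
    · exact (hUH.2.1 q hq hqd).2.2 h
  · intro q hq hqn
    exact hUH.2.2 q hq ⟨hq, fun h => hqn (Or.inl h), fun h => hqn (Or.inr h)⟩

theorem exists_decomposition [Finite G] (hG : Cfsg.IsMinSimpleOddOrder G) (h30 : T1430 G)
    {M K : Subgroup G} (hM : IsCoatom M) (hKc : IsCyclic K)
    (hK : Cfsg.IsPiHallOf (Cfsg.kappa M) K M) :
    ∃ U : Subgroup G, Cfsg.IsSigmaDecomposition M K U := by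
  by_cases hK1 : K = ⊥
  · subst hK1
    obtain ⟨E, hE, -⟩ := exists_compl_ge hG hM (X := ⊥) bot_le (fun q hq hqd => by
      rw [card_bot] at hqd
      exact absurd (Nat.dvd_one.mp hqd) hq.one_lt.ne')
    exact ⟨E, ⟨hKc, hK, by rw [bot_sup_eq]; exact hE, bot_le⟩⟩
  · obtain ⟨U, hU, -⟩ := exists_good_decomposition hG h30 hM hKc hK hK1
    exact ⟨U, hU⟩

/-- `U M_σ` is a Hall `κ(M)'`-subgroup of `M`. -/
theorem isPiHallOf_U_sup [Finite G] (hG : Cfsg.IsMinSimpleOddOrder G) {M K U : Subgroup G}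
    (hM : IsCoatom M) (D : Cfsg.IsSigmaDecomposition M K U) :
    Cfsg.IsPiHallOf (Cfsg.kappa M)ᶜ (U ⊔ Cfsg.sigmaCore M) M := by
  have hS := sigmaCore_hall hG hM
  have hUM : U ≤ M := D.compl.1
  refine ⟨sup_le hUM hS.1, ?_, ?_⟩
  · intro q hq hqd
    rw [sup_comm] at hqd
    rcases prime_dvd_card_sup (hUM.trans (le_normalizer_sigmaCore M)) hq hqd with h | h
    · exact fun hk => hk.2.2.1 (hS.2.1 q hq h)
    · exact not_kappa_of_decomp D hq h
  · intro q hq hqk hqd
    by_cases hqs : q ∈ Cfsg.sigma M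
    · exact hS.2.2 q hq hqs (hqd.trans (relIndex_dvd_of_le_left M le_sup_right))
    · have h1 : q ∣ Nat.card (K ⊔ Cfsg.sigmaCore M : Subgroup G) := by
        rw [card_compl' D.compl]
        exact hqd.trans (relIndex_dvd_of_le_left M le_sup_left)
      rcases (isPiHallOf_K_sup hG hM D.hall).2.1 q hq h1 with h | h
      · exact hqk h
      · exact hqs h

/-- a normal `π`-subgroup lies in every Hall `π`-subgroup (solvable case). -/
theorem le_hall_of_normal [Finite G] {π : Set ℕ} {W N M : Subgroup G}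
    (hs : Group.IsSolvable M) (hW : Cfsg.IsPiHallOf π W M) (hNM : N ≤ M)
    (hn : M ≤ normalizer (N : Set G)) (hN : ∀ p : ℕ, p.Prime → p ∣ Nat.card N → p ∈ π) :
    N ≤ W := by
  obtain ⟨H, hH, -, hNH⟩ := Cfsg.Agent.Lib.Helper66.exists_invariant_isPiHallOf_ge
    (π := π) (A := ⊥) (G := M) (U := N) bot_le (by simp) hs hNM bot_le hN
  obtain ⟨g, hg, rfl⟩ := Cfsg.Agent.Lib.Helper66.isPiHallOf_exists_conj hs hW hH
  have h1 := cj_mono g⁻¹ hNH
  rwa [cj_inv_cj, cj_eq_of_mem_normalizer (hn (M.inv_mem hg))] at h1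

/-- B-G Theorem A: `U M_σ` is normal in `M`. -/
theorem le_normalizer_U_sup [Finite G] (hG : Cfsg.IsMinSimpleOddOrder G) (h15 : T1415 G)
    (h30 : T1430 G) {M K U : Subgroup G} (hM : IsCoatom M)
    (D : Cfsg.IsSigmaDecomposition M K U) :
    M ≤ normalizer ((U ⊔ Cfsg.sigmaCore M : Subgroup G) : Set G) := by
  have hW := isPiHallOf_U_sup hG hM D
  have hs := solvable_of_ne_top hG hM.1
  have h1 : ⁅M, M⁆ ≤ U ⊔ Cfsg.sigmaCore M := by
    apply le_hall_of_normal hs hW (commutator_le_self M)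
      (le_normalizer_commutator le_normalizer le_normalizer)
    intro p hp hpd hk
    exact (kappa_subset_tau1 hG h15 h30 hM D.cyclic D.hall hk).2.2.2.1 hpd
  intro m hm
  apply mem_normalizer_of_cj_le'
  intro x hx
  rw [mem_cj] at hx
  have h2 : x = ⁅m, m⁻¹ * x * m⁆ * (m⁻¹ * x * m) := by
    rw [commutatorElement_def]; group
  rw [h2]
  exact mul_mem (h1 (commutator_mem_commutator hm (hW.1 hx))) hx

/-- `U` is a Hall `σ(M)'`-subgroup of `U M_σ`. -/
theorem isPiHallOf_U [Finite G] (hG : Cfsg.IsMinSimpleOddOrder G) {M K U : Subgroup G}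
    (hM : IsCoatom M) (D : Cfsg.IsSigmaDecomposition M K U) :
    Cfsg.IsPiHallOf (Cfsg.sigma M)ᶜ U (U ⊔ Cfsg.sigmaCore M) := by
  refine ⟨le_sup_left, fun q hq hqd => not_sigma_of_decomp hG hM D hq hqd, ?_⟩
  intro q hq hqs hqd
  have h1 : Nat.card (Cfsg.sigmaCore M ⊔ U : Subgroup G) ∣ Nat.card (Cfsg.sigmaCore M) * Nat.card U :=
    Cfsg.Agent.Lib.Helper27.card_sup_dvd_mul (D.compl.1.trans (le_normalizer_sigmaCore M))
  rw [sup_comm, card_eq_card_mul_relIndex (le_sup_left : U ≤ U ⊔ Cfsg.sigmaCore M),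
    mul_comm (Nat.card (Cfsg.sigmaCore M))] at h1
  have h2 := Nat.dvd_of_mul_dvd_mul_left Nat.card_pos h1
  exact hqs ((sigmaCore_hall hG hM).2.1 q hq (hqd.trans h2))

/-- two choices of `U` are conjugate under `C(K)`. -/
theorem decomp_conj [Finite G] (hG : Cfsg.IsMinSimpleOddOrder G) (h15 : T1415 G)
    (h30 : T1430 G) {M K U₁ U₂ : Subgroup G} (hM : IsCoatom M)
    (D₁ : Cfsg.IsSigmaDecomposition M K U₁) (D₂ : Cfsg.IsSigmaDecomposition M K U₂) :
    ∃ c ∈ centralizer (K : Set G), U₂ = cj c U₁ := by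
  have hs := solvable_of_ne_top hG hM.1
  have hW₁ := isPiHallOf_U_sup hG hM D₁
  have hW₂ := isPiHallOf_U_sup hG hM D₂
  have hWW : U₂ ⊔ Cfsg.sigmaCore M = U₁ ⊔ Cfsg.sigmaCore M := by
    apply Subgroup.eq_of_le_of_card_ge
    · exact le_hall_of_normal hs hW₁ hW₂.1 (le_normalizer_U_sup hG h15 h30 hM D₂) hW₂.2.1
    · exact (Cfsg.Agent.Lib.Helper66.isPiHallOf_card_eq hW₁ hW₂).le
  have hU₁ := isPiHallOf_U hG hM D₁
  have hU₂ := isPiHallOf_U hG hM D₂
  rw [hWW] at hU₂
  have hcop : (Nat.card K).Coprime (Nat.card (U₁ ⊔ Cfsg.sigmaCore M : Subgroup G)) :=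
    Nat.coprime_of_dvd (fun k hk a b => hW₁.2.1 k hk b (D₁.hall.2.1 k hk a))
  obtain ⟨c, hc, e⟩ := Cfsg.Agent.Lib.Helper66.invariant_isPiHallOf_conj
    (D₁.hall.1.trans (le_normalizer_U_sup hG h15 h30 hM D₁)) hcop (isSolvable_of_le hW₁.1 hs)
    hU₁ hU₂ D₁.normal D₂.normal
  exact ⟨c, hc.2, e⟩

/-- statement S1352. -/
theorem S1352_of [Finite G] (hG : Cfsg.IsMinSimpleOddOrder G) (h15 : T1415 G) (h30 : T1430 G)
    (M : Subgroup G) (hM : IsCoatom M) (K : Subgroup G)
    (hKc : IsCyclic K) (hK : Cfsg.IsPiHallOf (Cfsg.kappa M) K M) :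
    (∃ U : Subgroup G, Cfsg.IsSigmaDecomposition M K U) ∧
      ∀ U : Subgroup G, Cfsg.IsSigmaDecomposition M K U →
        M ≤ Subgroup.normalizer ((U ⊔ Cfsg.sigmaCore M : Subgroup G) : Set G) :=
  ⟨exists_decomposition hG h30 hM hKc hK, fun _ D => le_normalizer_U_sup hG h15 h30 hM D⟩

/-- for `K ≠ 1`: `U` is abelian and `K` acts regularly on it. -/
theorem decomp_good [Finite G] (hG : Cfsg.IsMinSimpleOddOrder G) (h15 : T1415 G) (h30 : T1430 G)
    {M K U : Subgroup G} (hM : IsCoatom M) (D : Cfsg.IsSigmaDecomposition M K U) (hK1 : K ≠ ⊥) :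
    (∀ a ∈ U, ∀ b ∈ U, a * b = b * a) ∧ ∀ k ∈ K, k ≠ 1 → U ⊓ centralizer ({k} : Set G) = ⊥ := by
  obtain ⟨U₀, D₀, hab, hreg⟩ := exists_good_decomposition hG h30 hM D.cyclic D.hall hK1
  obtain ⟨c, hc, rfl⟩ := decomp_conj hG h15 h30 hM D₀ D
  constructor
  · intro a ha b hb
    rw [mem_cj] at ha hb
    have := comm_of_isMulCommutative hab ha hb
    calc a * b = c * ((c⁻¹ * a * c) * (c⁻¹ * b * c)) * c⁻¹ := by group
      _ = c * ((c⁻¹ * b * c) * (c⁻¹ * a * c)) * c⁻¹ := by rw [this]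
      _ = b * a := by group
  · intro k hk hk1
    rw [eq_bot_iff]
    rintro u ⟨hu, huk⟩
    have hu' : u ∈ cj c U₀ := hu
    rw [mem_cj] at hu'
    have hck : k * c = c * k := mem_centralizer_iff.mp hc k hk
    have huk' : u * k = k * u := mem_centralizer_singleton_iff.mp huk
    have h1 : c⁻¹ * u * c ∈ U₀ ⊓ centralizer ({k} : Set G) := by
      refine mem_inf.mpr ⟨hu', ?_⟩
      rw [mem_centralizer_singleton_iff]
      have hck' : c⁻¹ * k = k * c⁻¹ := by
        calc c⁻¹ * k = c⁻¹ * (k * c) * c⁻¹ := by group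
          _ = c⁻¹ * (c * k) * c⁻¹ := by rw [hck]
          _ = k * c⁻¹ := by group
      calc c⁻¹ * u * c * k = c⁻¹ * u * (c * k) := by group
        _ = c⁻¹ * u * (k * c) := by rw [hck]
        _ = c⁻¹ * (u * k) * c := by group
        _ = c⁻¹ * (k * u) * c := by rw [huk']
        _ = (c⁻¹ * k) * u * c := by group
        _ = (k * c⁻¹) * u * c := by rw [hck']
        _ = k * (c⁻¹ * u * c) := by group
    rw [hreg k hk hk1, mem_bot] at h1
    rw [mem_bot]
    calc u = c * (c⁻¹ * u * c) * c⁻¹ := by group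
      _ = 1 := by rw [h1]; group

/-- statement S1353. -/
theorem S1353_of [Finite G] (hG : Cfsg.IsMinSimpleOddOrder G) (h15 : T1415 G) (h30 : T1430 G)
    (M : Subgroup G) (hM : IsCoatom M) (K U : Subgroup G)
    (hKU : Cfsg.IsSigmaDecomposition M K U) :
    ∀ k ∈ K, k ≠ 1 → U ⊓ Subgroup.centralizer ({k} : Set G) = ⊥ := by
  intro k hk hk1
  have hK1 : K ≠ ⊥ := fun h => hk1 (by rw [h, mem_bot] at hk; exact hk)
  exact (decomp_good hG h15 h30 hM hKU hK1).2 k hk hk1

/-- statement S1354. -/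
theorem S1354_of [Finite G] (hG : Cfsg.IsMinSimpleOddOrder G) (h30 : T1430 G)
    (M : Subgroup G) (hM : IsCoatom M) (K : Subgroup G)
    (hKc : IsCyclic K) (hK : Cfsg.IsPiHallOf (Cfsg.kappa M) K M) :
    Cfsg.sigmaCore M ⊓ Subgroup.centralizer (K : Set G) ≠ ⊥ ∧
      (K ≠ ⊥ → ∀ k ∈ K, k ≠ 1 →
        M ⊓ Subgroup.centralizer ({k} : Set G) =
          K ⊔ (Cfsg.sigmaCore M ⊓ Subgroup.centralizer (K : Set G))) := by
  constructor
  · by_cases hK1 : K = ⊥
    · subst hK1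
      have : centralizer (((⊥ : Subgroup G) : Subgroup G) : Set G) = ⊤ := by
        rw [eq_top_iff]
        intro x _
        rw [mem_centralizer_iff]
        intro h hh
        have : h = 1 := hh
        rw [this]; simp
      rw [this, inf_top_eq]
      exact sigmaCore_ne_bot hG hM
    · have hcard : Nat.card K ≠ 1 := fun h => hK1 ((card_eq_one (H := K)).mp h)
      have hpp : Fact (Nat.card K).minFac.Prime := ⟨Nat.minFac_prime hcard⟩
      set p := (Nat.card K).minFac with hp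
      have hpK : p ∣ Nat.card K := Nat.minFac_dvd _
      have hpk : p ∈ Cfsg.kappa M := hK.2.1 p hpp.out hpK
      obtain ⟨P, hP⟩ := exists_isSylowIn p K
      have hPM : IsSylowIn p P M := by
        refine ⟨hP.le.trans hK.1, hP.isPGroup, ?_⟩
        rw [← relIndex_mul_relIndex P K M hP.le hK.1]
        intro h
        rcases hpp.out.dvd_mul.mp h with h | h
        · exact hP.not_dvd h
        · exact hK.2.2 p hpp.out hpk h
      obtain ⟨P', hP'⟩ := hPM.exists_sylow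
      obtain ⟨x, hx, hx1, y, hy, hy1, hxy⟩ := (hpk.2.2.2 P').2
      have hxK : (x : G) ∈ K := hP.le (by rw [← hP']; exact mem_map_of_mem _ hx)
      have hx1' : (x : G) ≠ 1 := fun h => hx1 (Subtype.ext h)
      intro hbot
      have h1 : y ∈ Cfsg.sigmaCore M ⊓ centralizer ({(x : G)} : Set G) :=
        ⟨hy, mem_centralizer_singleton_iff.mpr hxy.symm⟩
      rw [(h30 M hM K hK hK1).1 x hxK hx1', hbot, mem_bot] at h1
      exact hy1 h1
  · intro hK1 k hk hk1
    apply le_antisymm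
    · have ho : orderOf k ≠ 1 := fun h => hk1 (orderOf_eq_one_iff.mp h)
      have hp := Nat.minFac_prime ho
      set p := (orderOf k).minFac with hpdef
      have hpd : p ∣ orderOf k := Nat.minFac_dvd _
      have hox : orderOf (k ^ (orderOf k / p)) = p :=
        orderOf_pow_orderOf_div (orderOf_pos k).ne' hpd
      rw [← ((h30 M hM K hK hK1).2.2 (zpowers (k ^ (orderOf k / p)))
        (zpowers_le.mpr (K.pow_mem hk _)) (by rw [Nat.card_zpowers, hox]; exact hp)).1]
      refine inf_le_inf_left M ?_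
      intro c hc
      have hck : c * k = k * c := mem_centralizer_singleton_iff.mp hc
      apply centralizer_le_normalizer
      rw [mem_centralizer_iff]
      intro z hz
      obtain ⟨n, rfl⟩ := mem_zpowers_iff.mp hz
      exact (((Commute.pow_right (show Commute c k from hck) _).zpow_right n).eq).symm
    · apply sup_le
      · refine le_inf hK.1 ?_
        intro a ha
        rw [mem_centralizer_singleton_iff]
        exact congrArg Subtype.val (comm_of_isCyclic hKc ⟨a, ha⟩ ⟨k, hk⟩)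
      · refine le_inf (inf_le_left.trans (sigmaCore_le M)) ?_
        intro a ha
        rw [mem_centralizer_singleton_iff]
        exact (mem_centralizer_iff.mp ha.2 k hk).symm

end Cfsg.Agent.Lib.Helper28.BG12
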