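import Cfsg.Agent.Lib.Helper24.BG14F
import Cfsg.Agent.Lib.Helper28.BG16c

/-!
B-G section 14: `P`-pairs `(M, K)` (`K ≠ 1` a Hall `κ(M)`-subgroup of the maximal subgroup `M`, NOT assumed
cyclic), `K* = C_{M_σ}(K)`, `Z = K K*`, and the partner maximal subgroups.
-/

set_option autoImplicit false

namespace Cfsg.Agent.Lib.Helper28.BGZ

open Subgroup Cfsg.Agent.Lib.Helper30 Cfsg.Agent.Lib.Helper2 Cfsg.Agent.Lib.Helper68
  Cfsg.Agent.Lib.Helper28.BG12 Cfsg.Agent.Lib.Helper24.BG14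

universe u

variable {G : Type u} [Group G]

/-- `K* = C_{M_σ}(K)`. -/
abbrev Ks (M K : Subgroup G) : Subgroup G := Cfsg.sigmaCore M ⊓ centralizer (K : Set G)

/-- text of S1431. -/
def T1431 (G : Type u) [Group G] : Prop :=
  ∀ (M : Subgroup G), IsCoatom M → ∀ (K : Subgroup G), Cfsg.IsPiHallOf (Cfsg.kappa M) K M →
    K ≠ ⊥ →
    (∀ g : G, g ∉ M → (Cfsg.sigmaCore M ⊓ Subgroup.centralizer (K : Set G)) ⊓
        M.map (MulAut.conj g).toMonoidHom = ⊥) ∧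
      (∀ g ∈ M, g ∉ K ⊔ (Cfsg.sigmaCore M ⊓ Subgroup.centralizer (K : Set G)) →
        K ⊓ K.map (MulAut.conj g).toMonoidHom = ⊥) ∧
      (∀ (p : ℕ), p.Prime → p ∣ Nat.card ↥(Cfsg.sigmaCore M ⊓ Subgroup.centralizer (K : Set G)) →
        ∀ S : Sylow p ↥(Cfsg.sigmaCore M),
        Cfsg.InUniqueMaximal ((S : Subgroup ↥(Cfsg.sigmaCore M)).map (Cfsg.sigmaCore M).subtype) ∧
        (S : Subgroup ↥(Cfsg.sigmaCore M)).map (Cfsg.sigmaCore M).subtype ≤ M ∧
        ¬ (S : Subgroup ↥(Cfsg.sigmaCore M)).map (Cfsg.sigmaCore M).subtype ≤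
          (Cfsg.sigmaCore M ⊓ Subgroup.centralizer (K : Set G))) ∧
      ∀ Y : Subgroup G, (∀ p : ℕ, p.Prime → p ∣ Nat.card Y → p ∈ Cfsg.sigma M) →
        Y ⊓ (Cfsg.sigmaCore M ⊓ Subgroup.centralizer (K : Set G)) ≠ ⊥ → Y ≤ Cfsg.sigmaCore M

/-- the texts used. -/
structure TZ (G : Type u) [Group G] : Prop where
  T : Texts G
  h30 : T1430 G
  h31 : T1431 G

/-- a maximal subgroup of type `P` with a Hall `κ`-subgroup. -/
structure PPair (M K : Subgroup G) : Prop where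
  coatom : IsCoatom M
  hall : Cfsg.IsPiHallOf (Cfsg.kappa M) K M
  ne : K ≠ ⊥

namespace PPair

variable {M K : Subgroup G}

theorem le (P : PPair M K) : K ≤ M := P.hall.1

theorem Ks_le (M K : Subgroup G) : Ks M K ≤ M := inf_le_left.trans (sigmaCore_le M)

theorem comm {k c : G} (hk : k ∈ K) (hc : c ∈ Ks M K) : Commute k c :=
  (mem_centralizer_iff.mp hc.2) k hk

theorem Ks_le_normalizer (M K : Subgroup G) : Ks M K ≤ normalizer (K : Set G) :=
  inf_le_right.trans (centralizer_le_normalizer _)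

theorem K_le_centralizer (M K : Subgroup G) : K ≤ centralizer (Ks M K : Set G) :=
  le_centralizer_iff.mp inf_le_right

theorem K_le_normalizer (M K : Subgroup G) : K ≤ normalizer (Ks M K : Set G) :=
  (K_le_centralizer M K).trans (centralizer_le_normalizer _)

theorem mem_Z {z : G} : z ∈ K ⊔ Ks M K ↔ ∃ k ∈ K, ∃ c ∈ Ks M K, z = k * c :=
  mem_sup_of_le_normalizer (Ks_le_normalizer M K)

theorem Z_le (P : PPair M K) : K ⊔ Ks M K ≤ M := sup_le P.le (Ks_le M K)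

theorem Z_le_normalizer_K (M K : Subgroup G) : K ⊔ Ks M K ≤ normalizer (K : Set G) :=
  sup_le le_normalizer (Ks_le_normalizer M K)

theorem Z_le_normalizer_Ks (M K : Subgroup G) : K ⊔ Ks M K ≤ normalizer (Ks M K : Set G) :=
  sup_le (K_le_normalizer M K) le_normalizer

theorem coprime_sigma [Finite G] (hG : Cfsg.IsMinSimpleOddOrder G) (P : PPair M K) :
    (Nat.card K).Coprime (Nat.card (Cfsg.sigmaCore M)) :=
  Nat.coprime_of_dvd (fun p hp h1 h2 => (P.hall.2.1 p hp h1).2.2.1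
    ((sigmaCore_hall hG P.coatom).2.1 p hp h2))

theorem coprime [Finite G] (hG : Cfsg.IsMinSimpleOddOrder G) (P : PPair M K) :
    (Nat.card K).Coprime (Nat.card (Ks M K)) :=
  Nat.Coprime.coprime_dvd_right (card_dvd_of_le inf_le_left) (P.coprime_sigma hG)

theorem inf_eq_bot [Finite G] (hG : Cfsg.IsMinSimpleOddOrder G) (P : PPair M K) :
    K ⊓ Ks M K = ⊥ := (disjoint_of_coprime_natCard (P.coprime hG)).eq_bot

theorem isComplIn [Finite G] (hG : Cfsg.IsMinSimpleOddOrder G) (P : PPair M K) :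
    Cfsg.IsComplIn K (Ks M K) (K ⊔ Ks M K) :=
  ⟨le_sup_left, le_sup_right, P.inf_eq_bot hG, fun _ hm => mem_Z.mp hm⟩

theorem card_Z [Finite G] (hG : Cfsg.IsMinSimpleOddOrder G) (P : PPair M K) :
    Nat.card ↥(K ⊔ Ks M K) = Nat.card K * Nat.card (Ks M K) := by
  rw [card_eq_card_mul_relIndex (le_sup_right : Ks M K ≤ K ⊔ Ks M K), ← card_compl (P.isComplIn hG),
    mul_comm]

theorem mem_Ks_of_coprime [Finite G] {z : G} (hz : z ∈ K ⊔ Ks M K)
    (hcop : (orderOf z).Coprime (Nat.card K)) : z ∈ Ks M K :=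
  mem_of_coprime_of_sup le_sup_right le_sup_left (Z_le_normalizer_Ks M K) le_rfl hz hcop

theorem mem_K_of_coprime [Finite G] {z : G} (hz : z ∈ K ⊔ Ks M K)
    (hcop : (orderOf z).Coprime (Nat.card (Ks M K))) : z ∈ K :=
  mem_of_coprime_of_sup le_sup_left le_sup_right (Z_le_normalizer_K M K) (by rw [sup_comm]) hz hcop

theorem sigmaCore_inf_Z [Finite G] (hG : Cfsg.IsMinSimpleOddOrder G) (P : PPair M K) :
    Cfsg.sigmaCore M ⊓ (K ⊔ Ks M K) = Ks M K := by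
  apply le_antisymm
  · intro z hz
    exact mem_Ks_of_coprime hz.2 (Nat.Coprime.coprime_dvd_left (orderOf_dvd_card_of_mem hz.1)
      (P.coprime_sigma hG).symm)
  · exact le_inf inf_le_left le_sup_right

theorem prime_action (T : TZ G) (P : PPair M K) {k : G} (hk : k ∈ K) (hk1 : k ≠ 1) :
    Cfsg.sigmaCore M ⊓ centralizer ({k} : Set G) = Ks M K :=
  (T.h30 M P.coatom K P.hall P.ne).1 k hk hk1

theorem norm_X (T : TZ G) (P : PPair M K) {X : Subgroup G} (hX : X ≤ K)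
    (hXp : (Nat.card X).Prime) : M ⊓ normalizer (X : Set G) = K ⊔ Ks M K :=
  ((T.h30 M P.coatom K P.hall P.ne).2.2 X hX hXp).1

theorem X_le_sigmaCore (T : TZ G) (P : PPair M K) {X : Subgroup G} (hX : X ≤ K)
    (hXp : (Nat.card X).Prime) {N : Subgroup G} (hN : IsCoatom N)
    (hNX : normalizer (X : Set G) ≤ N) : X ≤ Cfsg.sigmaCore N :=
  ((T.h30 M P.coatom K P.hall P.ne).2.2 X hX hXp).2.2 N hN hNX

theorem mem_of_mem_cj (T : TZ G) (P : PPair M K) {y g : G} (hy : y ∈ Ks M K) (hy1 : y ≠ 1)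
    (hyg : y ∈ cj g M) : g ∈ M := by
  by_contra hg
  have h := (T.h31 M P.coatom K P.hall P.ne).1 g hg
  exact hy1 (mem_bot.mp (h ▸ (⟨hy, hyg⟩ : y ∈ Ks M K ⊓ cj g M)))

theorem cent_le (T : TZ G) (P : PPair M K) {y : G} (hy : y ∈ Ks M K) (hy1 : y ≠ 1) :
    centralizer ({y} : Set G) ≤ M := by
  intro c hc
  apply P.mem_of_mem_cj T hy hy1
  rw [mem_cj]
  have h : c * y = y * c := mem_centralizer_singleton_iff.mp hc
  have : c⁻¹ * y * c = y := by rw [mul_assoc, ← h]; group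
  rw [this]
  exact Ks_le M K hy

theorem normalizer_le (T : TZ G) (P : PPair M K) {Y : Subgroup G} (hY : Y ≤ Ks M K)
    (hY1 : Y ≠ ⊥) : normalizer (Y : Set G) ≤ M := by
  intro g hg
  obtain ⟨y, hy, hy1⟩ := Y.bot_or_exists_ne_one.resolve_left hY1
  have h1 : g * y * g⁻¹ ∈ Y := (mem_normalizer_iff.mp hg y).mp hy
  exact P.mem_of_mem_cj T (hY h1) (conj_ne_one hy1) (conj_mem_cj (Ks_le M K (hY hy)))

theorem mem_Z_of_inf_ne_bot (T : TZ G) (P : PPair M K) {g : G} (hg : g ∈ M)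
    (h : K ⊓ cj g K ≠ ⊥) : g ∈ K ⊔ Ks M K := by
  by_contra hgZ
  exact h ((T.h31 M P.coatom K P.hall P.ne).2.1 g hg hgZ)

theorem Ks_ne_bot [Finite G] (T : TZ G) (P : PPair M K) : Ks M K ≠ ⊥ := by
  have hK := P.hall
  have hcard : Nat.card K ≠ 1 := fun h => P.ne ((card_eq_one (H := K)).mp h)
  have hpp : Fact (Nat.card K).minFac.Prime := ⟨Nat.minFac_prime hcard⟩
  set p := (Nat.card K).minFac with hp
  have hpK : p ∣ Nat.card K := Nat.minFac_dvd _
  have hpk : p ∈ Cfsg.kappa M := hK.2.1 p hpp.out hpK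
  obtain ⟨Q, hQ⟩ := exists_isSylowIn p K
  have hQM : IsSylowIn p Q M := by
    refine ⟨hQ.le.trans hK.1, hQ.isPGroup, ?_⟩
    rw [← relIndex_mul_relIndex Q K M hQ.le hK.1]
    intro h
    rcases hpp.out.dvd_mul.mp h with h | h
    · exact hQ.not_dvd h
    · exact hK.2.2 p hpp.out hpk h
  obtain ⟨Q', hQ'⟩ := hQM.exists_sylow
  obtain ⟨x, hx, hx1, y, hy, hy1, hxy⟩ := (hpk.2.2.2 Q').2
  have hxK : (x : G) ∈ K := hQ.le (by rw [← hQ']; exact mem_map_of_mem _ hx)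
  have hx1' : (x : G) ≠ 1 := fun h => hx1 (Subtype.ext h)
  intro hbot
  apply hy1
  rw [← mem_bot, ← hbot, ← P.prime_action T hxK hx1']
  exact ⟨hy, mem_centralizer_singleton_iff.mpr hxy.symm⟩

end PPair

theorem exists_prime_order_mem [Finite G] {H : Subgroup G} {p : ℕ} (hp : p.Prime)
    (h : p ∣ Nat.card H) : ∃ y ∈ H, orderOf y = p := by
  have : Fact p.Prime := ⟨hp⟩
  obtain ⟨y, hy⟩ := exists_prime_orderOf_dvd_card' (G := H) p h
  exact ⟨y, y.2, by rw [← hy, Subgroup.orderOf_coe]⟩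

theorem ne_one_of_orderOf_prime {y : G} {p : ℕ} (hp : p.Prime) (h : orderOf y = p) : y ≠ 1 := by
  rintro rfl
  rw [orderOf_one] at h
  exact hp.one_lt.ne h

theorem ne_bot_of_card_prime {X : Subgroup G} (h : (Nat.card X).Prime) : X ≠ ⊥ := by
  rintro rfl
  rw [card_bot] at h
  exact Nat.not_prime_one h

/-- the partner of a `P`-pair with respect to a subgroup `X ≤ K` of prime order. -/
theorem partner [Finite G] (hG : Cfsg.IsMinSimpleOddOrder G) (T : TZ G) {M K : Subgroup G}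
    (P : PPair M K) {X : Subgroup G} (hXK : X ≤ K) (hXp : (Nat.card X).Prime) {N : Subgroup G}
    (hN : IsCoatom N) (hNX : normalizer (X : Set G) ≤ N) :
    ∃ K1 : Subgroup G, PPair N K1 ∧ K1 ⊔ Ks N K1 = K ⊔ Ks M K ∧ Ks M K ≤ K1 ∧ Ks N K1 ≤ K ∧
      X ≤ Ks N K1 ∧ M ⊓ N = K ⊔ Ks M K ∧ ∀ g : G, N ≠ cj g M := by
  have hM := P.coatom
  have hXN : X ≤ Cfsg.sigmaCore N := P.X_le_sigmaCore T hXK hXp hN hNX
  have htN : Nat.card X ∈ Cfsg.sigma N := (sigmaCore_hall hG hN).2.1 _ hXp (card_dvd_of_le hXN)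
  have htM : Nat.card X ∉ Cfsg.sigma M := (P.hall.2.1 _ hXp (card_dvd_of_le hXK)).2.2.1
  have hnc : ∀ g : G, N ≠ cj g M := by
    intro g h
    rw [h, sigma_cj] at htN
    exact htM htN
  have hσ : ∀ p, p ∈ Cfsg.sigma M → p ∉ Cfsg.sigma N :=
    fun p hp => not_mem_sigma_of_nconj T.T.h78 hM hN hnc hp
  have hNM : N ≠ M := fun h => hnc 1 (by rw [cj_one]; exact h)
  have hZN : K ⊔ Ks M K ≤ N := by
    rw [← P.norm_X T hXK hXp]; exact inf_le_right.trans hNX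
  obtain ⟨x, hx, hx1⟩ := X.bot_or_exists_ne_one.resolve_left (ne_bot_of_card_prime hXp)
  -- primes of `K*` lie in `κ(N)`
  have hκ : ∀ y ∈ Ks M K, y ≠ 1 → ∀ p : ℕ, p.Prime → p ∣ orderOf y → p ∈ Cfsg.kappa N := by
    intro y hy hy1
    have hyx : y ∈ centralizer ({x} : Set G) :=
      mem_centralizer_singleton_iff.mpr (PPair.comm (hXK hx) hy).eq.symm
    rcases T.T.h32 N hN x (hXN hx) hx1 y ⟨hZN (le_sup_right (a := K) hy), hyx⟩ hy1
      (fun p hp hpy => hσ p (prime_mem_sigma_of_dvd_order hG hM hy.1 hp hpy)) with h | h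
    · exact h.1
    · exact absurd (h.2.2.2 M hM (P.cent_le T hy hy1)) hNM.symm
  have hκ' : ∀ p : ℕ, p.Prime → p ∣ Nat.card (Ks M K) → p ∈ Cfsg.kappa N := by
    intro p hp hpd
    obtain ⟨y, hy, hyo⟩ := exists_prime_order_mem hp hpd
    exact hκ y hy (ne_one_of_orderOf_prime hp hyo) p hp (by rw [hyo])
  obtain ⟨K1, hK1, -, hKsK1⟩ := Cfsg.Agent.Lib.Helper66.exists_invariant_isPiHallOf_ge
    (π := Cfsg.kappa N) (A := ⊥) (G := N) (U := Ks M K) bot_le (by simp)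
    (solvable_of_ne_top hG hN.1) (le_sup_right.trans hZN) bot_le hκ'
  have hKs1 := P.Ks_ne_bot T
  have P1 : PPair N K1 := ⟨hN, hK1, fun h => hKs1 (le_bot_iff.mp (h ▸ hKsK1))⟩
  obtain ⟨y0, hy0, hy01⟩ := (Ks M K).bot_or_exists_ne_one.resolve_left hKs1
  have hact : Cfsg.sigmaCore N ⊓ centralizer ({y0} : Set G) = Ks N K1 :=
    P1.prime_action T (hKsK1 hy0) hy01
  have hXK1s : X ≤ Ks N K1 := by
    intro x' hx'
    rw [← hact]
    exact ⟨hXN hx', mem_centralizer_singleton_iff.mpr (PPair.comm (hXK hx') hy0).eq⟩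
  have hc1 : Nat.card (Ks M K) ≠ 1 := fun h => hKs1 ((card_eq_one).mp h)
  obtain ⟨y1, hy1, hy1o⟩ := exists_prime_order_mem (Nat.minFac_prime hc1) (Nat.minFac_dvd _)
  have hY'p : (Nat.card (zpowers y1)).Prime := by
    rw [Nat.card_zpowers, hy1o]; exact Nat.minFac_prime hc1
  have hY'Ks : zpowers y1 ≤ Ks M K := (zpowers_le).mpr hy1
  have hY'1 : zpowers y1 ≠ ⊥ := ne_bot_of_card_prime hY'p
  have hZ1 : N ⊓ normalizer ((zpowers y1 : Subgroup G) : Set G) = K1 ⊔ Ks N K1 :=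
    P1.norm_X T (hY'Ks.trans hKsK1) hY'p
  have hZ1M : K1 ⊔ Ks N K1 ≤ M := by
    rw [← hZ1]; exact inf_le_right.trans (P.normalizer_le T hY'Ks hY'1)
  have hZZ1 : K ⊔ Ks M K ≤ K1 ⊔ Ks N K1 := by
    rw [← hZ1]
    refine le_inf hZN (sup_le ?_ ?_)
    · exact ((PPair.K_le_centralizer M K).trans
        (centralizer_le (SetLike.coe_subset_coe.mpr hY'Ks))).trans (centralizer_le_normalizer _)
    · have : Ks M K ≤ N ⊓ normalizer ((zpowers y1 : Subgroup G) : Set G) := by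
        rw [hZ1]; exact hKsK1.trans le_sup_left
      exact this.trans inf_le_right
  have hκM : ∀ p : ℕ, p.Prime → p ∣ Nat.card (Ks N K1) → p ∈ Cfsg.kappa M := by
    intro p hp hpd
    obtain ⟨w, hw, hwo⟩ := exists_prime_order_mem hp hpd
    have hw1 : w ≠ 1 := ne_one_of_orderOf_prime hp hwo
    have hwy : w ∈ centralizer ({y0} : Set G) := by
      have := hw
      rw [← hact] at this
      exact this.2
    rcases T.T.h32 M hM y0 hy0.1 hy01 w ⟨hZ1M (le_sup_right (a := K1) hw), hwy⟩ hw1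
      (fun q hq hqw hqM => hσ q hqM (prime_mem_sigma_of_dvd_order hG hN hw.1 hq hqw)) with h | h
    · exact h.1 p hp (by rw [hwo])
    · exact absurd (h.2.2.2 N hN (P1.cent_le T hw hw1)) hNM
  obtain ⟨H, hH, -, hK1sH⟩ := Cfsg.Agent.Lib.Helper66.exists_invariant_isPiHallOf_ge
    (π := Cfsg.kappa M) (A := ⊥) (G := M) (U := Ks N K1) bot_le (by simp)
    (solvable_of_ne_top hG hM.1) (le_sup_right.trans hZ1M) bot_le hκM
  obtain ⟨g, hg, e⟩ := Cfsg.Agent.Lib.Helper66.isPiHallOf_exists_conj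
    (solvable_of_ne_top hG hM.1) P.hall hH
  have hgZ : g ∈ K ⊔ Ks M K := by
    apply P.mem_Z_of_inf_ne_bot T hg
    intro hbot
    apply hx1
    rw [← mem_bot, ← hbot]
    exact ⟨hXK hx, e ▸ hK1sH (hXK1s hx)⟩
  have hK1sK : Ks N K1 ≤ K := by
    have : cj g K = K := cj_eq_of_mem_normalizer (PPair.Z_le_normalizer_K M K hgZ)
    rw [← this, ← e]; exact hK1sH
  have hZ1Z : K1 ⊔ Ks N K1 ≤ K ⊔ Ks M K := by
    refine sup_le ?_ (hK1sK.trans le_sup_left)
    rw [← P.norm_X T hXK hXp]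
    refine le_inf (le_sup_left.trans hZ1M) ?_
    exact ((PPair.K_le_centralizer N K1).trans
      (centralizer_le (SetLike.coe_subset_coe.mpr hXK1s))).trans (centralizer_le_normalizer _)
  have hZeq := le_antisymm hZ1Z hZZ1
  have hdisj : Cfsg.sigmaCore M ⊓ Cfsg.sigmaCore N = ⊥ :=
    (disjoint_of_coprime_natCard (coprime_card_sigmaCore hG T.T.h78 hM hN hnc)).eq_bot
  have hNσM : Cfsg.sigmaCore N ⊓ M ≤ Ks N K1 := by
    intro w hw
    rw [← hact]
    refine ⟨hw.1, ?_⟩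
    have hy0N : y0 ∈ N := hZN (le_sup_right (a := K) hy0)
    have h1 : w * y0 * w⁻¹ * y0⁻¹ ∈ Cfsg.sigmaCore M :=
      mul_mem ((mem_normalizer_iff.mp (le_normalizer_sigmaCore M hw.2) y0).mp hy0.1)
        (inv_mem hy0.1)
    have h2 : w * (y0 * w⁻¹ * y0⁻¹) ∈ Cfsg.sigmaCore N :=
      mul_mem hw.1 ((mem_normalizer_iff.mp (le_normalizer_sigmaCore N hy0N) w⁻¹).mp (inv_mem hw.1))
    have e2 : w * (y0 * w⁻¹ * y0⁻¹) = w * y0 * w⁻¹ * y0⁻¹ := by group
    rw [e2] at h2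
    have h3 : w * y0 * w⁻¹ * y0⁻¹ = 1 := by
      rw [← mem_bot, ← hdisj]; exact ⟨h1, h2⟩
    apply mem_centralizer_singleton_iff.mpr
    calc w * y0 = (w * y0 * w⁻¹ * y0⁻¹) * (y0 * w) := by group
      _ = y0 * w := by rw [h3, one_mul]
  have hMN : M ⊓ N = K ⊔ Ks M K := by
    apply le_antisymm _ (le_inf P.Z_le hZN)
    intro i hi
    apply P.mem_Z_of_inf_ne_bot T hi.1
    intro hbot
    apply conj_ne_one (y := i) hx1
    rw [← mem_bot, ← hbot]
    refine ⟨hK1sK (hNσM ⟨?_, ?_⟩), conj_mem_cj (hXK hx)⟩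
    · exact (mem_normalizer_iff.mp (le_normalizer_sigmaCore N hi.2) x).mp (hXN hx)
    · exact M.mul_mem (M.mul_mem hi.1 (P.le (hXK hx))) (M.inv_mem hi.1)
  exact ⟨K1, P1, hZeq, hKsK1, hK1sK, hXK1s, hMN, hnc⟩

end Cfsg.Agent.Lib.Helper28.BGZ
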