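import Cfsg.Agent.Lib.Helper28.BGZ1

/-!
B-G section 14: the family of maximal subgroups through `Z = K K*`, the set `Z°` and its properties.
-/

set_option autoImplicit false

namespace Cfsg.Agent.Lib.Helper28.BGZ

open Subgroup Cfsg.Agent.Lib.Helper30 Cfsg.Agent.Lib.Helper2 Cfsg.Agent.Lib.Helper68
  Cfsg.Agent.Lib.Helper28.BG12 Cfsg.Agent.Lib.Helper24.BG14

universe u

variable {G : Type u} [Group G]

theorem orderOf_conj' (g c : G) : orderOf (g * c * g⁻¹) = orderOf c := by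
  have := orderOf_injective (MulAut.conj g).toMonoidHom (MulAut.conj g).injective c
  simpa using this

theorem centralizer_singleton_le_normalizer_zpowers (b : G) :
    centralizer ({b} : Set G) ≤ normalizer ((zpowers b : Subgroup G) : Set G) := by
  refine le_trans ?_ (centralizer_le_normalizer _)
  apply le_centralizer_iff.mp
  rw [zpowers_le, mem_centralizer_iff]
  intro h hh
  exact mem_centralizer_singleton_iff.mp hh

theorem conj_mem_of_mem_zpowers {Z : Subgroup G} {z w g : G} (hw : w ∈ zpowers z)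
    (hg : g * z * g⁻¹ ∈ Z) : g * w * g⁻¹ ∈ Z := by
  obtain ⟨i, rfl⟩ := mem_zpowers_iff.mp hw
  rw [← conj_zpow]
  exact Z.zpow_mem hg i

/-- an element of prime order in `zpowers a`. -/
theorem exists_prime_order_zpowers {a : G} [Finite G] (ha1 : a ≠ 1) :
    ∃ b ∈ zpowers a, (orderOf b).Prime := by
  have ho : orderOf a ≠ 1 := fun h => ha1 (orderOf_eq_one_iff.mp h)
  refine ⟨a ^ (orderOf a / (orderOf a).minFac), (zpowers a).pow_mem (mem_zpowers a) _, ?_⟩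
  rw [orderOf_pow_orderOf_div (orderOf_pos a).ne' (Nat.minFac_dvd _)]
  exact Nat.minFac_prime ho

theorem not_dvd_of_coprime_of_dvd {m n t : ℕ} (h : m.Coprime n) (ht : t.Prime) (h1 : t ∣ m) :
    ¬ t ∣ n := fun h2 => ht.one_lt.ne' (Nat.eq_one_of_dvd_coprimes h h1 h2)

/-- for `1 ≠ k ∈ K` there is a partner through a power of `k` of prime order. -/
theorem exists_partner [Finite G] (hG : Cfsg.IsMinSimpleOddOrder G) (T : TZ G) {M K : Subgroup G}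
    (P : PPair M K) {k : G} (hk : k ∈ K) (hk1 : k ≠ 1) :
    ∃ (b : G) (N K1 : Subgroup G), b ∈ zpowers k ∧ b ≠ 1 ∧ PPair N K1 ∧
      K1 ⊔ Ks N K1 = K ⊔ Ks M K ∧ Ks M K ≤ K1 ∧ Ks N K1 ≤ K ∧ b ∈ Ks N K1 ∧
      M ⊓ N = K ⊔ Ks M K ∧ (∀ g : G, N ≠ cj g M) := by
  obtain ⟨b, hb, hbo⟩ := exists_prime_order_zpowers hk1
  have hb1 : b ≠ 1 := ne_one_of_orderOf_prime hbo rfl
  have hbK : b ∈ K := (zpowers_le.mpr hk) hb
  have hXK : zpowers b ≤ K := zpowers_le.mpr hbK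
  have hXp : (Nat.card (zpowers b)).Prime := by rw [Nat.card_zpowers]; exact hbo
  have hX1 := ne_bot_of_card_prime hXp
  have hXtop : zpowers b ≠ ⊤ := fun h => P.coatom.1 (top_le_iff.mp (h ▸ hXK.trans P.le))
  obtain ⟨N, hN, hNX⟩ := exists_coatom_ge (normalizer_ne_top hG hX1 hXtop)
  obtain ⟨K1, P1, h1, h2, h3, h4, h5, h6⟩ := partner hG T P hXK hXp hN hNX
  exact ⟨b, N, K1, hb, hb1, P1, h1, h2, h3, h4 (mem_zpowers b), h5, h6⟩

/-- which maximal subgroups have a `σ`-core meeting `Z`. -/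
theorem classify [Finite G] (hG : Cfsg.IsMinSimpleOddOrder G) (T : TZ G) {M K : Subgroup G}
    (P : PPair M K) {L : Subgroup G} (hL : IsCoatom L) {a : G} (haL : a ∈ Cfsg.sigmaCore L)
    (haZ : a ∈ K ⊔ Ks M K) (ha1 : a ≠ 1) :
    L = M ∨ ∃ X : Subgroup G, X ≤ K ∧ (Nat.card X).Prime ∧ normalizer (X : Set G) ≤ L := by
  have hM := P.coatom
  obtain ⟨b, hb, hbo⟩ := exists_prime_order_zpowers ha1
  have hb1 : b ≠ 1 := ne_one_of_orderOf_prime hbo rfl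
  have hbL : b ∈ Cfsg.sigmaCore L := (zpowers_le.mpr haL) hb
  have hbZ : b ∈ K ⊔ Ks M K := (zpowers_le.mpr haZ) hb
  have htL : orderOf b ∈ Cfsg.sigma L := prime_mem_sigma_of_dvd_order hG hL hbL hbo dvd_rfl
  by_cases htK : orderOf b ∣ Nat.card K
  · right
    have hbK : b ∈ K := PPair.mem_K_of_coprime hbZ
      ((Nat.Prime.coprime_iff_not_dvd hbo).mpr (not_dvd_of_coprime_of_dvd (P.coprime hG) hbo htK))
    have hXK : zpowers b ≤ K := zpowers_le.mpr hbK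
    have hXp : (Nat.card (zpowers b)).Prime := by rw [Nat.card_zpowers]; exact hbo
    have hX1 := ne_bot_of_card_prime hXp
    have hXtop : zpowers b ≠ ⊤ := fun h => hM.1 (top_le_iff.mp (h ▸ hXK.trans P.le))
    obtain ⟨N, hN, hNX⟩ := exists_coatom_ge (normalizer_ne_top hG hX1 hXtop)
    have hXN := P.X_le_sigmaCore T hXK hXp hN hNX
    have hbN : b ∈ Cfsg.sigmaCore N := hXN (mem_zpowers b)
    have htN : orderOf b ∈ Cfsg.sigma N := prime_mem_sigma_of_dvd_order hG hN hbN hbo dvd_rfl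
    obtain ⟨g, hg⟩ := T.T.h78 N L hN hL ⟨_, htN, htL⟩
    have hg' : L = cj g N := hg
    have hC : centralizer ({b} : Set G) ≤ N :=
      (centralizer_singleton_le_normalizer_zpowers b).trans hNX
    have := cj_eq_of_cent_le hG T.T.h16 T.T.h17 T.T.h18 T.T.h78 T.T.h32 hN hbN hb1 hC g
      (hg' ▸ sigmaCore_le L hbL)
    rw [this] at hg'
    exact ⟨zpowers b, hXK, hXp, hg' ▸ hNX⟩
  · left
    have hbKs : b ∈ Ks M K := PPair.mem_Ks_of_coprime hbZ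
      ((Nat.Prime.coprime_iff_not_dvd hbo).mpr htK)
    have htM : orderOf b ∈ Cfsg.sigma M := prime_mem_sigma_of_dvd_order hG hM hbKs.1 hbo dvd_rfl
    obtain ⟨g, hg⟩ := T.T.h78 M L hM hL ⟨_, htM, htL⟩
    have hg' : L = cj g M := hg
    have hgM : g ∈ M := P.mem_of_mem_cj T hbKs hb1 (hg' ▸ sigmaCore_le L hbL)
    rw [hg', cj_eq_of_mem hgM]

/-- every maximal subgroup whose `σ`-core meets `Z` is a `P`-pair with the same `Z`. -/
theorem fam [Finite G] (hG : Cfsg.IsMinSimpleOddOrder G) (T : TZ G) {M K : Subgroup G}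
    (P : PPair M K) {L : Subgroup G} (hL : IsCoatom L)
    (hne : Cfsg.sigmaCore L ⊓ (K ⊔ Ks M K) ≠ ⊥) :
    ∃ KL : Subgroup G, PPair L KL ∧ KL ⊔ Ks L KL = K ⊔ Ks M K ∧
      (L ≠ M → M ⊓ L = K ⊔ Ks M K ∧ (∀ g : G, L ≠ cj g M) ∧ Ks M K ≤ KL ∧ Ks L KL ≤ K) := by
  obtain ⟨a, ha, ha1⟩ := (Cfsg.sigmaCore L ⊓ (K ⊔ Ks M K)).bot_or_exists_ne_one.resolve_left hne
  rcases classify hG T P hL ha.1 ha.2 ha1 with rfl | ⟨X, hXK, hXp, hNX⟩
  · exact ⟨K, P, rfl, fun h => absurd rfl h⟩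
  · obtain ⟨K1, P1, h1, h2, h3, -, h5, h6⟩ := partner hG T P hXK hXp hL hNX
    exact ⟨K1, P1, h1, fun _ => ⟨h5, h6, h2, h3⟩⟩

/-- `Z°`: the elements of `Z` lying in no `σ`-core. -/
def Zo (Z : Subgroup G) : Set G :=
  {z | z ∈ Z ∧ ∀ L : Subgroup G, IsCoatom L → z ∉ Cfsg.sigmaCore L}

theorem mem_of_conj_mem_Z [Finite G] (hG : Cfsg.IsMinSimpleOddOrder G) (T : TZ G)
    {M K : Subgroup G} (P : PPair M K) {c g : G} (hc : c ∈ Ks M K) (hc1 : c ≠ 1)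
    (h : g * c * g⁻¹ ∈ K ⊔ Ks M K) : g ∈ M := by
  have h1 : g * c * g⁻¹ ∈ Ks M K := by
    apply PPair.mem_Ks_of_coprime h
    rw [orderOf_conj']
    exact Nat.Coprime.coprime_dvd_left (orderOf_dvd_card_of_mem hc) (P.coprime hG).symm
  exact P.mem_of_mem_cj T h1 (conj_ne_one hc1) (conj_mem_cj (PPair.Ks_le M K hc))

theorem mem_Z_of_conj [Finite G] (hG : Cfsg.IsMinSimpleOddOrder G) (T : TZ G)
    {M K : Subgroup G} (P : PPair M K) {k c g : G} (hk : k ∈ K) (hk1 : k ≠ 1)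
    (hc : c ∈ Ks M K) (hc1 : c ≠ 1) (hg : g * (k * c) * g⁻¹ ∈ K ⊔ Ks M K) :
    g ∈ K ⊔ Ks M K := by
  have hcomm : Commute k c := PPair.comm hk hc
  have hcop : (orderOf k).Coprime (orderOf c) :=
    Nat.Coprime.coprime_dvd_left (orderOf_dvd_card_of_mem hk)
      (Nat.Coprime.coprime_dvd_right (orderOf_dvd_card_of_mem hc) (P.coprime hG))
  have hkz : k ∈ zpowers (k * c) := mem_zpowers_mul_left hcomm hcop
  have hcz : c ∈ zpowers (k * c) := mem_zpowers_mul_right hcomm hcop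
  have hgM : g ∈ M := mem_of_conj_mem_Z hG T P hc hc1 (conj_mem_of_mem_zpowers hcz hg)
  obtain ⟨b, N, K1, hb, hb1, P1, hZ, -, -, hbK1s, hMN, -⟩ := exists_partner hG T P hk hk1
  have hbz : b ∈ zpowers (k * c) := (zpowers_le.mpr hkz) hb
  have hgN : g ∈ N := mem_of_conj_mem_Z hG T P1 hbK1s hb1
    (by rw [hZ]; exact conj_mem_of_mem_zpowers hbz hg)
  rw [← hMN]
  exact ⟨hgM, hgN⟩

/-- every element of `Z°` is a product `k c` of nontrivial elements for a suitable base. -/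
theorem Zo_decomp [Finite G] (hG : Cfsg.IsMinSimpleOddOrder G) (T : TZ G)
    {M K : Subgroup G} (P : PPair M K) {z : G} (hz : z ∈ Zo (K ⊔ Ks M K)) :
    ∃ L KL : Subgroup G, PPair L KL ∧ KL ⊔ Ks L KL = K ⊔ Ks M K ∧
      ∃ k ∈ KL, k ≠ 1 ∧ ∃ c ∈ Ks L KL, c ≠ 1 ∧ z = k * c := by
  obtain ⟨k, hk, c, hc, rfl⟩ := PPair.mem_Z.mp hz.1
  have hk1 : k ≠ 1 := by
    rintro rfl
    rw [one_mul] at hz
    exact hz.2 M P.coatom hc.1
  by_cases hc1 : c = 1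
  · subst hc1
    rw [mul_one] at hz ⊢
    obtain ⟨b, N, K1, hb, hb1, P1, hZ, -, -, hbK1s, -, -⟩ := exists_partner hG T P hk hk1
    have hz' := hz.1
    rw [← hZ] at hz'
    obtain ⟨k1, hk1', c1, hc1', e⟩ := PPair.mem_Z.mp hz'
    refine ⟨N, K1, P1, hZ, k1, hk1', ?_, c1, hc1', ?_, e⟩
    · rintro rfl
      rw [one_mul] at e
      exact hz.2 N P1.coatom (e ▸ hc1'.1)
    · rintro rfl
      rw [mul_one] at e
      apply hb1
      rw [← mem_bot, ← P1.inf_eq_bot hG]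
      exact ⟨(zpowers_le.mpr (e ▸ hk1')) hb, hbK1s⟩
  · exact ⟨M, K, P, rfl, k, hk, hk1, c, hc, hc1, rfl⟩

theorem Zo_TI [Finite G] (hG : Cfsg.IsMinSimpleOddOrder G) (T : TZ G)
    {M K : Subgroup G} (P : PPair M K) {z : G} (hz : z ∈ Zo (K ⊔ Ks M K)) {g : G}
    (hg : g * z * g⁻¹ ∈ K ⊔ Ks M K) : g ∈ K ⊔ Ks M K := by
  obtain ⟨L, KL, PL, hZ, k, hk, hk1, c, hc, hc1, rfl⟩ := Zo_decomp hG T P hz
  rw [← hZ] at hg ⊢
  exact mem_Z_of_conj hG T PL hk hk1 hc hc1 hg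

theorem Zo_conj [Finite G] (hG : Cfsg.IsMinSimpleOddOrder G) {Z : Subgroup G} {z : G}
    (hz : z ∈ Zo Z) {g : G} (hg : g ∈ Z) : g * z * g⁻¹ ∈ Zo Z := by
  refine ⟨Z.mul_mem (Z.mul_mem hg hz.1) (Z.inv_mem hg), fun L hL h => ?_⟩
  apply hz.2 (cj g⁻¹ L) (Cfsg.Agent.Lib.Helper24.BG14.isCoatom_cj hL g⁻¹)
  rw [sigmaCore_cj hG hL, mem_cj, inv_inv]
  exact h

theorem one_not_mem_Zo [Finite G] {M K : Subgroup G} (P : PPair M K) :
    (1 : G) ∉ Zo (K ⊔ Ks M K) := fun h => h.2 M P.coatom (one_mem _)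

/-- no element `x r` (`x ∈ L_σ^#`, `r ∈ R(x)`) lies in `Z°`. -/
theorem not_mem_Zo_of_support [Finite G] (hG : Cfsg.IsMinSimpleOddOrder G) (T : TZ G)
    {M K : Subgroup G} (P : PPair M K) {L : Subgroup G} (hL : IsCoatom L) {x r : G}
    (hx : x ∈ Cfsg.sigmaCore L) (hx1 : x ≠ 1) (hr : r ∈ Cfsg.supportR L x) :
    x * r ∉ Zo (K ⊔ Ks M K) := by
  intro hz
  obtain ⟨hcr, hor⟩ := supportR_facts hG T.T hL hx hx1 hr
  have hxr : (orderOf x).Coprime (orderOf r) :=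
    Nat.Coprime.coprime_dvd_left (orderOf_dvd_card_of_mem hx) hor
  have hxZ : x ∈ K ⊔ Ks M K := (zpowers_le.mpr hz.1) (mem_zpowers_mul_left hcr hxr)
  have hne : Cfsg.sigmaCore L ⊓ (K ⊔ Ks M K) ≠ ⊥ := fun h =>
    hx1 (mem_bot.mp (h ▸ (⟨hx, hxZ⟩ : x ∈ Cfsg.sigmaCore L ⊓ (K ⊔ Ks M K))))
  obtain ⟨KL, PL, hZ, -⟩ := fam hG T P hL hne
  have hxKs : x ∈ Ks L KL := by
    rw [← PL.sigmaCore_inf_Z hG, hZ]; exact ⟨hx, hxZ⟩
  have hC := PL.cent_le T hxKs hx1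
  rw [supportR_of_cent_le hC, mem_bot] at hr
  subst hr
  rw [mul_one] at hz
  exact hz.2 L hL hx

/-- no conjugate of an element of `Z°` lies in a tilde set. -/
theorem conj_Zo_not_mem_tilde [Finite G] (hG : Cfsg.IsMinSimpleOddOrder G) (T : TZ G)
    {M K : Subgroup G} (P : PPair M K) {L : Subgroup G} (hL : IsCoatom L) {z : G}
    (hz : z ∈ Zo (K ⊔ Ks M K)) (y : G) :
    y * z * y⁻¹ ∉ Cfsg.tildeOf L ((Cfsg.sigmaCore L : Set G) \ {1}) := by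
  rintro ⟨a, ⟨ha, ha1⟩, r, hr, w, e⟩
  have ha1' : a ≠ 1 := ha1
  -- `z = (y⁻¹ w) (a r) (y⁻¹ w)⁻¹`
  set v := y⁻¹ * w with hv
  have e' : z = (v * a * v⁻¹) * (v * r * v⁻¹) := by
    have : z = y⁻¹ * (y * z * y⁻¹) * y := by group
    rw [this, e, hv]; group
  have hL' := Cfsg.Agent.Lib.Helper24.BG14.isCoatom_cj hL v
  have h1 : v * a * v⁻¹ ∈ Cfsg.sigmaCore (cj v L) := by
    rw [sigmaCore_cj hG hL]; exact conj_mem_cj ha
  have h2 : v * r * v⁻¹ ∈ Cfsg.supportR (cj v L) (v * a * v⁻¹) := by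
    rw [supportR_cj hG T.T hL ha ha1']; exact conj_mem_cj hr
  exact not_mem_Zo_of_support hG T P hL' h1 (conj_ne_one ha1') h2 (e' ▸ hz)

end Cfsg.Agent.Lib.Helper28.BGZ
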