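import Cfsg.Agent.Lib.Helper24.BG14F
import Cfsg.Agent.Lib.Helper27.BG14a
import Cfsg.Agent.Lib.Helper28.BG16c
import Cfsg.Agent.S1446

/-!
B-G 14.2(g) (part): a maximal subgroup of type `P` which is not of type `P1` has `|K|` prime and `M_σ` nilpotent
(no cyclicity assumption on `K`).
-/

set_option autoImplicit false
namespace Cfsg.Agent.Lib.Helper28.BGZ
open Subgroup Cfsg.Agent.Lib.Helper30 Cfsg.Agent.Lib.Helper28.BG12 Cfsg.Agent.Lib.Helper24.BG14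
universe u
variable {G : Type u} [Group G]

theorem prime_card_of_not_P1 [Finite G] (hG : Cfsg.IsMinSimpleOddOrder G) (h17 : T1417 G)
    (h30 : T1430 G) {M K : Subgroup G} (hM : IsCoatom M)
    (hK : Cfsg.IsPiHallOf (Cfsg.kappa M) K M) (hK1 : K ≠ ⊥) {q : ℕ} (hq : q.Prime)
    (hqM : q ∣ Nat.card M) (hqs : q ∉ Cfsg.sigma M) (hqk : q ∉ Cfsg.kappa M) :
    (Nat.card K).Prime ∧ Group.IsNilpotent (Cfsg.sigmaCore M) := by
  obtain ⟨hact, ⟨U, -, hU, hKU, hreg⟩, -⟩ := h30 M hM K hK hK1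
  have hqq : Fact q.Prime := ⟨hq⟩
  have hqU : q ∣ Nat.card U := dvd_card_of_hall hU hq ⟨hq, hqk, hqs⟩ hqM
  obtain ⟨Q, hQ⟩ := exists_isSylowIn q U
  have hQM : IsSylowIn q Q M := by
    refine ⟨hQ.le.trans hU.1, hQ.isPGroup, ?_⟩
    rw [← relIndex_mul_relIndex Q U M hQ.le hU.1]
    intro h
    rcases hq.dvd_mul.mp h with h | h
    · exact hQ.not_dvd h
    · exact hU.2.2 q hq ⟨hq, hqk, hqs⟩ h
  obtain ⟨S, hS⟩ := hQM.exists_sylow
  obtain ⟨-, hC, hnil⟩ := Cfsg.Agent.Lib.Helper27.BG14.S1429_of hG h17 M hM q hqM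
    (fun h => h.elim hqs hqk) S
  refine ⟨?_, hnil⟩
  have hΩ : closure {x : G | x ∈ (S : Subgroup M).map M.subtype ∧ x ^ q = 1} ≤ U := by
    rw [closure_le]
    intro x hx
    exact hQ.le (hS ▸ hx.1)
  have hCU : Cfsg.sigmaCore M ⊓ centralizer (U : Set G) = ⊥ := by
    rw [eq_bot_iff, ← hC]
    exact inf_le_inf_left _ (centralizer_le (SetLike.coe_subset_coe.mpr hΩ))
  have hS' := sigmaCore_hall hG hM
  have hUK : (Nat.card U).Coprime (Nat.card K) :=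
    Nat.coprime_of_dvd (fun p hp h1 h2 => (hU.2.1 p hp h1).2.1 (hK.2.1 p hp h2))
  have hle : U ⊔ K ≤ M := sup_le hU.1 hK.1
  have hcop : (Nat.card ↥(U ⊔ K)).Coprime (Nat.card (Cfsg.sigmaCore M)) := by
    apply Nat.coprime_of_dvd
    intro p hp h1 h2
    have hpσ := hS'.2.1 p hp h2
    rcases prime_dvd_card_sup hKU hp h1 with h | h
    · exact (hU.2.1 p hp h).2.2 hpσ
    · exact (hK.2.1 p hp h).2.2.1 hpσ
  exact (Cfsg.Agent.S1446.result U K (Cfsg.sigmaCore M) (ne_bot_of_dvd_card hq hqU) hK1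
    (disjoint_of_coprime_natCard hUK).eq_bot hKU hreg
    (isSolvable_of_le hle (solvable_of_ne_top hG hM.1))
    (Odd.of_dvd_nat hG.1 (card_subgroup_dvd_card _)) (sigmaCore_ne_bot hG hM) hnil
    (hU.1.trans (le_normalizer_sigmaCore M)) (hK.1.trans (le_normalizer_sigmaCore M)) hcop hCU
    hact).1

end Cfsg.Agent.Lib.Helper28.BGZ
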