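import Cfsg.Agent.Lib.Helper28.BGZ2
import Cfsg.Agent.Lib.Helper28.BGZF4
import Cfsg.Agent.Lib.Helper28.BGZPart
import Cfsg.Agent.Lib.Helper28.BGZCount
import Cfsg.Agent.Lib.Helper60.BG147.B6

/-!
B-G section 14: the counting argument.  Some maximal subgroup through `Z` is not of type `P1`;
consequently Hall `κ`-subgroups are cyclic and the partner `M*` exists.
-/

set_option autoImplicit false

namespace Cfsg.Agent.Lib.Helper28.BGZ

open Subgroup Cfsg.Agent.Lib.Helper30 Cfsg.Agent.Lib.Helper2 Cfsg.Agent.Lib.Helper68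
  Cfsg.Agent.Lib.Helper28.BG12 Cfsg.Agent.Lib.Helper24.BG14

universe u

variable {G : Type u} [Group G]

/-- text of S1377. -/
def T1377 (G : Type u) [Group G] : Prop :=
  ∀ (M : Subgroup G), IsCoatom M →
    Set.ncard (Cfsg.tildeOf M ((Cfsg.sigmaCore M : Set G) \ {1})) =
      (Nat.card (Cfsg.sigmaCore M) - 1) * M.index

theorem one_not_mem_tilde [Finite G] (hG : Cfsg.IsMinSimpleOddOrder G) (T : Texts G)
    {M : Subgroup G} (hM : IsCoatom M) :
    (1 : G) ∉ Cfsg.tildeOf M ((Cfsg.sigmaCore M : Set G) \ {1}) := by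
  rintro ⟨a, ⟨ha, ha1⟩, r, hr, y, e⟩
  have ha1' : a ≠ 1 := ha1
  obtain ⟨hcr, hor⟩ := supportR_facts hG T hM ha ha1' hr
  have hxr : (orderOf a).Coprime (orderOf r) :=
    Nat.Coprime.coprime_dvd_left (orderOf_dvd_card_of_mem ha) hor
  have h1 : a * r = 1 := by
    calc a * r = y⁻¹ * (y * (a * r) * y⁻¹) * y := by group
      _ = 1 := by rw [← e]; group
  have h2 := mem_zpowers_mul_left hcr hxr
  rw [h1, zpowers_one_eq_bot, mem_bot] at h2
  exact ha1' h2

/-- type `P1` (or `F` with trivial complement): all primes lie in `σ ∪ κ`. -/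
def IsP1 (L : Subgroup G) : Prop :=
  ∀ q : ℕ, q.Prime → q ∣ Nat.card L → q ∉ Cfsg.sigma L → q ∈ Cfsg.kappa L

theorem card_of_P1 [Finite G] (hG : Cfsg.IsMinSimpleOddOrder G) {L KL : Subgroup G}
    (PL : PPair L KL) (h : IsP1 L) :
    Nat.card L = Nat.card KL * Nat.card (Cfsg.sigmaCore L) := by
  have hH := isPiHallOf_K_sup hG PL.coatom PL.hall
  have hri : (KL ⊔ Cfsg.sigmaCore L).relIndex L = 1 := by
    by_contra hne
    have hq := Nat.minFac_prime hne
    have hqd := Nat.minFac_dvd ((KL ⊔ Cfsg.sigmaCore L).relIndex L)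
    have hqL : ((KL ⊔ Cfsg.sigmaCore L).relIndex L).minFac ∣ Nat.card L :=
      hqd.trans (relIndex_dvd_card _ _)
    by_cases hs : ((KL ⊔ Cfsg.sigmaCore L).relIndex L).minFac ∈ Cfsg.sigma L
    · exact hH.2.2 _ hq (Or.inr hs) hqd
    · exact hH.2.2 _ hq (Or.inl (h _ hq hqL hs)) hqd
  have h1 := card_eq_card_mul_relIndex hH.1
  rw [hri, mul_one] at h1
  have hn : KL ≤ normalizer (Cfsg.sigmaCore L : Set G) := PL.le.trans (le_normalizer_sigmaCore L)
  have hc : Cfsg.IsComplIn (Cfsg.sigmaCore L) KL (Cfsg.sigmaCore L ⊔ KL) :=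
    ⟨le_sup_left, le_sup_right,
      (disjoint_of_coprime_natCard (PL.coprime_sigma hG).symm).eq_bot,
      fun _ hm => (mem_sup_of_le_normalizer hn).mp hm⟩
  rw [h1, sup_comm, card_eq_card_mul_relIndex (le_sup_right : KL ≤ Cfsg.sigmaCore L ⊔ KL),
    ← card_compl hc]

theorem three_mul_card_Ks_le [Finite G] (hG : Cfsg.IsMinSimpleOddOrder G) (T : TZ G)
    {L KL : Subgroup G} (PL : PPair L KL) :
    3 * Nat.card (Ks L KL) ≤ Nat.card (Cfsg.sigmaCore L) := by
  have hle : Ks L KL ≤ Cfsg.sigmaCore L := inf_le_left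
  have h1 := card_eq_card_mul_relIndex hle
  have hne : (Ks L KL).relIndex (Cfsg.sigmaCore L) ≠ 1 := by
    intro h
    have hle' : Cfsg.sigmaCore L ≤ Ks L KL := relIndex_eq_one.mp h
    have hc1 : Nat.card (Ks L KL) ≠ 1 := fun h => PL.Ks_ne_bot T ((card_eq_one).mp h)
    have hp := Nat.minFac_prime hc1
    have : Fact (Nat.card (Ks L KL)).minFac.Prime := ⟨hp⟩
    obtain ⟨S⟩ : Nonempty (Sylow (Nat.card (Ks L KL)).minFac ↥(Cfsg.sigmaCore L)) := inferInstance
    exact ((T.h31 L PL.coatom KL PL.hall PL.ne).2.2.1 _ hp (Nat.minFac_dvd _) S).2.2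
      ((map_subtype_le _).trans hle')
  have hodd : Odd ((Ks L KL).relIndex (Cfsg.sigmaCore L)) := by
    apply Odd.of_dvd_nat hG.1
    exact (relIndex_dvd_card _ _).trans (card_subgroup_dvd_card _)
  have h0 : (Ks L KL).relIndex (Cfsg.sigmaCore L) ≠ 0 := by
    intro h; rw [h] at hodd; exact (by decide : ¬ Odd 0) hodd
  have h2 : (Ks L KL).relIndex (Cfsg.sigmaCore L) ≠ 2 := by
    intro h; rw [h] at hodd; exact (by decide : ¬ Odd 2) hodd
  have h3 : 3 ≤ (Ks L KL).relIndex (Cfsg.sigmaCore L) := by omega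
  rw [h1, mul_comm]
  exact Nat.mul_le_mul_left _ h3

/-- non-conjugacy of two distinct members of the family. -/
theorem fam_nconj [Finite G] (hG : Cfsg.IsMinSimpleOddOrder G) (T : TZ G) {M K : Subgroup G}
    (P : PPair M K) {L L' : Subgroup G} (hL : IsCoatom L)
    (hne : Cfsg.sigmaCore L ⊓ (K ⊔ Ks M K) ≠ ⊥) (hL' : IsCoatom L')
    (hne' : Cfsg.sigmaCore L' ⊓ (K ⊔ Ks M K) ≠ ⊥) (hLL' : L ≠ L') : ∀ g : G, L' ≠ cj g L := by
  obtain ⟨KL, PL, hZ, -⟩ := fam hG T P hL hne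
  rw [← hZ] at hne'
  obtain ⟨_, _, _, h⟩ := fam hG T PL hL' hne'
  exact (h hLL'.symm).2.1

/-- the counting argument: some member of the family is not of type `P1`. -/
theorem exists_not_P1 [Finite G] (hG : Cfsg.IsMinSimpleOddOrder G) (T : TZ G) (h77 : T1377 G)
    {M K : Subgroup G} (P : PPair M K) :
    ∃ L : Subgroup G, IsCoatom L ∧ Cfsg.sigmaCore L ⊓ (K ⊔ Ks M K) ≠ ⊥ ∧ ¬ IsP1 L := by
  by_contra hcon
  push Not at hcon
  classical
  set Z := K ⊔ Ks M K with hZdef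
  set F : Finset (Subgroup G) :=
    (Set.toFinite {L : Subgroup G | IsCoatom L ∧ Cfsg.sigmaCore L ⊓ Z ≠ ⊥}).toFinset with hF
  have hmem : ∀ L, L ∈ F ↔ IsCoatom L ∧ Cfsg.sigmaCore L ⊓ Z ≠ ⊥ := by
    intro L; rw [hF, Set.Finite.mem_toFinset]; rfl
  have hnc : ∀ L ∈ F, ∀ L' ∈ F, L ≠ L' → ∀ g : G, L' ≠ cj g L := fun L hL L' hL' h =>
    fam_nconj hG T P ((hmem L).mp hL).1 ((hmem L).mp hL).2 ((hmem L').mp hL').1
      ((hmem L').mp hL').2 h
  have hZo : Zo Z ⊆ (Z : Set G) := fun z hz => hz.1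
  have h1Zo : (1 : G) ∉ Zo Z := one_not_mem_Zo P
  apply count_contra Z (Zo Z) F
    (fun L => Cfsg.tildeOf L ((Cfsg.sigmaCore L : Set G) \ {1})) (fun L => Cfsg.sigmaCore L) hZo
    (fun z hz g hg => Zo_TI hG T P hz hg) h1Zo
  · -- partition
    apply card_partition Z (Zo Z) F (fun L => Cfsg.sigmaCore L) hZo h1Zo
    · intro z hz hz1 hzo
      have : ∃ L : Subgroup G, IsCoatom L ∧ z ∈ Cfsg.sigmaCore L := by
        by_contra h
        push Not at h
        exact hzo ⟨hz, h⟩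
      obtain ⟨L, hL, hzL⟩ := this
      exact ⟨L, (hmem L).mpr ⟨hL, fun h => hz1 (mem_bot.mp (h ▸
        (⟨hzL, hz⟩ : z ∈ Cfsg.sigmaCore L ⊓ Z)))⟩, hzL⟩
    · intro z hz L hL
      exact hz.2 L ((hmem L).mp hL).1
    · intro L hL L' hL' hne
      exact (disjoint_of_coprime_natCard (coprime_card_sigmaCore hG T.T.h78 ((hmem L).mp hL).1
        ((hmem L').mp hL').1 (hnc L hL L' hL' hne))).eq_bot
  · intro L hL
    exact one_not_mem_tilde hG T.T ((hmem L).mp hL).1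
  · intro L hL
    exact h77 L ((hmem L).mp hL).1
  · intro L hL L' hL' hne
    exact Set.disjoint_iff_inter_eq_empty.mpr (Cfsg.Agent.Lib.Helper60.BG14.tilde_disjoint hG T.T
      ((hmem L).mp hL).1 ((hmem L').mp hL').1 (hnc L hL L' hL' hne))
  · intro L hL z hz y
    exact conj_Zo_not_mem_tilde hG T P ((hmem L).mp hL).1 hz y
  · intro L hL
    obtain ⟨hLc, hLne⟩ := (hmem L).mp hL
    obtain ⟨KL, PL, hZ, -⟩ := fam hG T P hLc hLne
    have hP1 := hcon L hLc hLne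
    show Nat.card L * Nat.card ↥(Cfsg.sigmaCore L ⊓ Z) = Nat.card (Cfsg.sigmaCore L) * Nat.card Z
    have hZ' : KL ⊔ Ks L KL = Z := hZ
    rw [← hZ', PL.sigmaCore_inf_Z hG, PL.card_Z hG, card_of_P1 hG PL hP1]
    ring
  · intro L hL
    obtain ⟨hLc, hLne⟩ := (hmem L).mp hL
    obtain ⟨KL, PL, hZ, -⟩ := fam hG T P hLc hLne
    show 3 * Nat.card ↥(Cfsg.sigmaCore L ⊓ Z) ≤ Nat.card (Cfsg.sigmaCore L)
    have hZ' : KL ⊔ Ks L KL = Z := hZ
    rw [← hZ', PL.sigmaCore_inf_Z hG]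
    exact three_mul_card_Ks_le hG T PL
  · obtain ⟨k, hk, hk1⟩ := K.bot_or_exists_ne_one.resolve_left P.ne
    obtain ⟨b, N, K1, hb, hb1, P1, -, -, -, hbK1s, -, hncN⟩ := exists_partner hG T P hk hk1
    apply Finset.one_lt_card.mpr
    refine ⟨M, (hmem M).mpr ⟨P.coatom, ?_⟩, N, (hmem N).mpr ⟨P1.coatom, ?_⟩, ?_⟩
    · rw [P.sigmaCore_inf_Z hG]; exact P.Ks_ne_bot T
    · intro h
      apply hb1
      rw [← mem_bot, ← h]
      exact ⟨hbK1s.1, le_sup_left (a := K) ((zpowers_le.mpr hk) hb)⟩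
    · intro h
      exact hncN 1 (by rw [cj_one]; exact h.symm)

theorem isZGroup_of_hall_kappa [Finite G] (hG : Cfsg.IsMinSimpleOddOrder G) {M K : Subgroup G}
    (hK : Cfsg.IsPiHallOf (Cfsg.kappa M) K M) : IsZGroup K := by
  refine ⟨fun p hp Q => ?_⟩
  have : Fact p.Prime := ⟨hp⟩
  by_cases hpK : p ∣ Nat.card K
  · have hk := hK.2.1 p hp hpK
    have hp2 : p ≠ 2 := Cfsg.Agent.Lib.Helper40.BG12.ne_two_of_dvd_odd hG.1
      (hpK.trans (card_subgroup_dvd_card K))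
    have hr : Cfsg.PRankLE p 1 K := Cfsg.Agent.Lib.Helper40.BG12.pRankLE_of_injective
      (Subgroup.inclusion hK.1) (Subgroup.inclusion_injective hK.1) (pRankLE_one_of_kappa hk)
    exact Cfsg.Agent.Lib.Helper40.BG12.isCyclic_of_isPGroup_rank_one hp2 hr Q Q.2
  · have : (Q : Subgroup K) = ⊥ := by
      obtain ⟨n, hn⟩ := IsPGroup.iff_card.mp Q.2
      rcases Nat.eq_zero_or_pos n with rfl | hn0
      · rw [pow_zero] at hn; exact (card_eq_one).mp hn
      · have h1 : p ∣ Nat.card (Q : Subgroup K) := by rw [hn]; exact dvd_pow_self p hn0.ne'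
        exact absurd (h1.trans (card_subgroup_dvd_card _)) hpK
    rw [this]; infer_instance

theorem eq_of_le_of_prime_card [Finite G] {A B : Subgroup G} (hAB : A ≤ B) (hA : A ≠ ⊥)
    (hB : (Nat.card B).Prime) : A = B := by
  apply eq_of_le_of_card_ge hAB
  rcases (Nat.dvd_prime hB).mp (card_dvd_of_le hAB) with h | h
  · exact absurd ((card_eq_one).mp h) hA
  · exact h.ge

theorem nilpotent_of_le' {A B : Subgroup G} (h : A ≤ B) (hB : Group.IsNilpotent B) :
    Group.IsNilpotent A :=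
  Group.nilpotent_of_mulEquiv (subgroupOfEquivOfLe h)

/-- the main structure theorem: `K` is cyclic and a partner exists. -/
theorem main [Finite G] (hG : Cfsg.IsMinSimpleOddOrder G) (T : TZ G) (h77 : T1377 G)
    {M K : Subgroup G} (P : PPair M K) :
    IsCyclic K ∧ ∃ N : Subgroup G, PPair N (Ks M K) ∧ Ks N (Ks M K) = K ∧
      M ⊓ N = K ⊔ Ks M K ∧ (∀ g : G, N ≠ cj g M) ∧ (¬ IsP1 M ∨ ¬ IsP1 N) := by
  obtain ⟨L, hL, hne, hnP1⟩ := exists_not_P1 hG T h77 P
  have hnP1' := hnP1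
  unfold IsP1 at hnP1'
  push Not at hnP1'
  obtain ⟨q, hq, hqL, hqs, hqk⟩ := hnP1'
  have hKpos : 0 < Nat.card K := Nat.card_pos
  by_cases hLM : L = M
  · subst hLM
    obtain ⟨hKp, -⟩ := prime_card_of_not_P1 hG T.T.h17 T.h30 P.coatom P.hall P.ne hq hqL hqs hqk
    have : Fact (Nat.card K).Prime := ⟨hKp⟩
    refine ⟨isCyclic_of_prime_card rfl, ?_⟩
    obtain ⟨k, hk, hk1⟩ := K.bot_or_exists_ne_one.resolve_left P.ne
    obtain ⟨b, N, K1, -, hb1, P1, hZ, h2, h3, hbK1s, hMN, hnc⟩ := exists_partner hG T P hk hk1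
    have e1 : Ks N K1 = K := eq_of_le_of_prime_card h3
      (fun h => hb1 (mem_bot.mp (h ▸ hbK1s))) hKp
    have hc : Nat.card K1 * Nat.card (Ks N K1) = Nat.card K * Nat.card (Ks L K) := by
      rw [← P1.card_Z hG, ← P.card_Z hG, hZ]
    rw [e1] at hc
    have e2 : Ks L K = K1 := by
      apply eq_of_le_of_card_ge h2
      have : Nat.card K1 = Nat.card (Ks L K) := by
        rw [mul_comm] at hc
        exact Nat.eq_of_mul_eq_mul_left hKpos hc
      exact this.le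
    subst e2
    exact ⟨N, P1, e1, hMN, hnc, Or.inl hnP1⟩
  · obtain ⟨KL, PL, hZ, hrest⟩ := fam hG T P hL hne
    obtain ⟨hML, hnc, h2, h3⟩ := hrest hLM
    obtain ⟨hKLp, hnil⟩ :=
      prime_card_of_not_P1 hG T.T.h17 T.h30 PL.coatom PL.hall PL.ne hq hqL hqs hqk
    have e2 : Ks M K = KL := eq_of_le_of_prime_card h2 (P.Ks_ne_bot T) hKLp
    subst e2
    have hc : Nat.card (Ks M K) * Nat.card (Ks L (Ks M K)) = Nat.card K * Nat.card (Ks M K) := by
      rw [← PL.card_Z hG, ← P.card_Z hG, hZ]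
    have e1 : Ks L (Ks M K) = K := by
      apply eq_of_le_of_card_ge h3
      have : Nat.card (Ks L (Ks M K)) = Nat.card K := by
        rw [mul_comm (Nat.card K)] at hc
        exact Nat.eq_of_mul_eq_mul_left Nat.card_pos hc
      exact this.ge
    refine ⟨?_, L, PL, e1, hML, hnc, Or.inr hnP1⟩
    have hKnil : Group.IsNilpotent K :=
      nilpotent_of_le' (by rw [← e1]; exact inf_le_left) hnil
    have := isZGroup_of_hall_kappa hG P.hall
    infer_instance

end Cfsg.Agent.Lib.Helper28.BGZ
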