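import Cfsg.Prelude.Def_LocalEven
import Cfsg.Prelude.Def_Local
import Cfsg.Prelude.Def_Transfer
import Cfsg.Agent.Lib.Helper28.SylSub
import Cfsg.Agent.Lib.Helper75.SylowCoprime
import Cfsg.Agent.Lib.Helper1.Cores

set_option autoImplicit false

/-! # `p`-minimal groups -/

namespace Cfsg.Agent.Lib.Helper28

open Cfsg.Agent.Lib.Helper53 (IsSyl)

universe u

section
variable {G : Type u} [Group G] [Finite G] {p : ℕ} [Fact p.Prime]

/-- the data extracted from `p`-minimality at a Sylow subgroup `S` -/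
structure PMinData (S M : Subgroup G) : Prop where
  ne_top : M ≠ ⊤
  le : S ≤ M
  max : ∀ C : Subgroup G, S ≤ C → C ≠ ⊤ → C ≤ M

omit [Fact p.Prime] in
theorem exists_pMinData (h : Cfsg.IsPMinimal p G) (S : Sylow p G) :
    ∃ M : Subgroup G, PMinData (S : Subgroup G) M := by
  obtain ⟨_, M, ⟨hMco, hSM⟩, huniq⟩ := h S
  refine ⟨M, hMco.1, hSM, fun C hSC hC => ?_⟩
  obtain ⟨M', hM', hCM'⟩ := (eq_top_or_exists_le_coatom C).resolve_left hC
  have := huniq M' ⟨hM', hSC.trans hCM'⟩
  rw [← this]; exact hCM'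

/-- a component of a `p`-minimal group has order divisible by `p` -/
theorem PMinData.dvd_card_component {S : Sylow p G} {M : Subgroup G}
    (h : PMinData (S : Subgroup G) M) {K : Subgroup G} (hK : Cfsg.IsComponent K) :
    p ∣ Nat.card ↥K := by
  by_contra hpK
  set N := Cfsg.pPrimeCore p G with hN
  have hNn : N.Normal := by
    have := pPrimeCore_characteristic (G := G) p
    infer_instance
  have hNc : ¬ p ∣ Nat.card ↥N := pPrimeCore_not_dvd p
  have hKc : (Nat.card ↥K).Coprime p := (coprime_iff_not_dvd _).mpr hpK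
  have hKN : K ≤ N := subnormal_le_pPrimeCore hK.1 hKc
  have hinv : ∀ (q : ℕ) [Fact q.Prime], ∃ R : Sylow q ↥N, (S : Subgroup G) ≤
      Subgroup.normalizer (((R : Subgroup ↥N).map N.subtype : Subgroup G) : Set G) :=
    fun q _ => Cfsg.Agent.Lib.Helper75.exists_invariant_sylow (S : Subgroup G) N S.2
      Subgroup.le_normalizer_of_normal hNc
  by_cases hA : ∃ (q : ℕ) (_ : Fact q.Prime) (R : Sylow q ↥N), (S : Subgroup G) ≤
      Subgroup.normalizer (((R : Subgroup ↥N).map N.subtype : Subgroup G) : Set G) ∧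
      ((R : Subgroup ↥N).map N.subtype : Subgroup G) ⊔ S = ⊤
  · obtain ⟨q, hq, R, hSR, htop⟩ := hA
    have h1 : Cfsg.pResidual p G ≤ (R : Subgroup ↥N).map N.subtype :=
      Cfsg.Agent.Lib.Helper53.pResidual_le_of_sup_eq_top hSR S.2 (by rw [sup_comm]; exact htop)
    have h2 : K ≤ Cfsg.pResidual p G := fun k hk =>
      Cfsg.Agent.Lib.Helper53.mem_pResidual (orderOf_coprime_of_card_coprime hKc hk)
    have h3 : IsPGroup q ↥K := (R.2.map N.subtype).to_le (h2.trans h1)
    exact IsQuasisimple.not_isNilpotent hK.2 h3.isNilpotent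
  · push Not at hA
    have hRM : ∀ (q : ℕ) (_ : Fact q.Prime) (R : Sylow q ↥N), (S : Subgroup G) ≤
        Subgroup.normalizer (((R : Subgroup ↥N).map N.subtype : Subgroup G) : Set G) →
        ((R : Subgroup ↥N).map N.subtype : Subgroup G) ≤ M := fun q hq R hR =>
      le_sup_left.trans (h.max _ le_sup_right (hA q hq R hR))
    have hNM : N ≤ M := by
      rw [← Subgroup.subgroupOf_eq_top]
      apply Cfsg.Agent.Lib.Helper1.eq_top_of_forall_sylow_le
      intro q hq
      obtain ⟨R, hR⟩ := hinv q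
      exact ⟨R, Subgroup.map_le_iff_le_comap.1 (hRM q hq R hR)⟩
    have hRn : ∀ (q : ℕ) (_ : Fact q.Prime) (R : Sylow q ↥N), (S : Subgroup G) ≤
        Subgroup.normalizer (((R : Subgroup ↥N).map N.subtype : Subgroup G) : Set G) →
        (R : Subgroup ↥N).Normal := by
      intro q hq R hR
      have h1 : Subgroup.normalizer (((R : Subgroup ↥N).map N.subtype : Subgroup G) : Set G) = ⊤ := by
        by_contra hne
        have h2 := h.max _ hR hne
        have h3 := Sylow.normalizer_sup_eq_top R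
        exact h.ne_top (top_le_iff.mp (h3 ▸ sup_le h2 hNM))
      have h2 : ((R : Subgroup ↥N).map N.subtype).Normal := Subgroup.normalizer_eq_top_iff.mp h1
      have h3 : (((R : Subgroup ↥N).map N.subtype).comap N.subtype).Normal := h2.comap _
      rwa [Subgroup.comap_map_eq_self_of_injective N.subtype_injective] at h3
    have hnil : Group.IsNilpotent ↥N := by
      refine (Group.isNilpotent_of_finite_tfae (G := ↥N)).out 0 3 |>.mpr ?_
      intro q hq R'
      obtain ⟨R, hR⟩ := hinv q
      have h1 := hRn q hq R hR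
      have := Sylow.unique_of_normal R h1
      rw [Subsingleton.elim R' R]
      exact h1
    exact IsQuasisimple.not_isNilpotent hK.2
      (SubClosed.of_le radClass_nilpotent subClosed_nilpotent hKN hnil)

/-- in a `p`-minimal group with `O_p = 1`, a normal subgroup containing a component supplements
the Sylow subgroup -/
theorem PMinData.sup_eq_top_of_component_le {S : Sylow p G} {M : Subgroup G}
    (h : PMinData (S : Subgroup G) M) (hOp : Cfsg.pCore p G = ⊥) {K N : Subgroup G}
    (hK : Cfsg.IsComponent K) (hN : N.Normal) (hKN : K ≤ N) : N ⊔ (S : Subgroup G) = ⊤ := by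
  by_contra hne
  have hNM : N ≤ M := le_sup_left.trans (h.max _ le_sup_right hne)
  have hsyl : IsSyl p ((S : Subgroup G) ⊓ N) N := isSyl_inf_subnormal S hN.isSubnormal
  have hfr := Cfsg.Agent.Lib.Helper53.frattini_sup hsyl (le_top : N ≤ ⊤)
    (Subgroup.le_normalizer_of_normal)
  rw [top_inf_eq] at hfr
  have hSn : (S : Subgroup G) ≤ Subgroup.normalizer (((S : Subgroup G) ⊓ N : Subgroup G) : Set G) :=
    (le_inf Subgroup.le_normalizer Subgroup.le_normalizer_of_normal).trans
      Subgroup.inf_normalizer_le_normalizer_inf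
  have htop : Subgroup.normalizer (((S : Subgroup G) ⊓ N : Subgroup G) : Set G) = ⊤ := by
    by_contra hne2
    exact h.ne_top (top_le_iff.mp (hfr ▸ sup_le hNM (h.max _ hSn hne2)))
  have hnorm : ((S : Subgroup G) ⊓ N).Normal := Subgroup.normalizer_eq_top_iff.mp htop
  have hbot : (S : Subgroup G) ⊓ N = ⊥ := by
    rw [eq_bot_iff, ← hOp]
    exact le_pCore hnorm (S.2.to_le inf_le_left)
  have hbot2 : (S : Subgroup G) ⊓ K = ⊥ := by
    rw [eq_bot_iff, ← hbot]
    exact inf_le_inf_left _ hKN
  have h1 := isSyl_inf_subnormal S hK.1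
  rw [hbot2] at h1
  exact (coprime_iff_not_dvd _).mp (coprime_card_of_isSyl_bot h1) (h.dvd_card_component hK)


omit [Finite G] in
/-- a perfect subgroup lies in every normal subgroup with solvable quotient -/
theorem perfect_le_of_isSolvable_quotient {L N : Subgroup G} [N.Normal] (hL : ⁅L, L⁆ = L)
    (hs : Group.IsSolvable (G ⧸ N)) : L ≤ N := by
  obtain ⟨n, hn⟩ := hs.solvable
  have key : ∀ k, L.map (QuotientGroup.mk' N) ≤ derivedSeries (G ⧸ N) k := by
    intro k
    induction k with
    | zero => exact le_top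
    | succ k ih =>
      rw [derivedSeries_succ]
      calc L.map (QuotientGroup.mk' N) = ⁅L.map (QuotientGroup.mk' N), L.map (QuotientGroup.mk' N)⁆ := by
            rw [← Subgroup.map_commutator, hL]
        _ ≤ _ := Subgroup.commutator_mono ih ih
  have h1 := key n
  rw [hn, le_bot_iff, Subgroup.map_eq_bot_iff, QuotientGroup.ker_mk'] at h1
  exact h1

omit [Finite G] in
/-- an element normalizing every member of a family normalizes the join -/
theorem mem_normalizer_iSup {ι : Sort*} {A : ι → Subgroup G} {x : G}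
    (h : ∀ i, x ∈ Subgroup.normalizer ((A i : Subgroup G) : Set G)) :
    x ∈ Subgroup.normalizer (((⨆ i, A i : Subgroup G)) : Set G) := by
  rw [← Cfsg.Agent.Lib.Helper53.cj_eq_self_iff, Subgroup.map_iSup]
  exact iSup_congr fun i => Cfsg.Agent.Lib.Helper53.cj_eq_self_iff.2 (h i)

/-- `S` normalizes the join of the `S`-conjugates of a subgroup -/
theorem le_normalizer_iSup_conj (S A : Subgroup G) :
    S ≤ Subgroup.normalizer (((⨆ s : ↥S, A.map (MulAut.conj (s : G)).toMonoidHom : Subgroup G)) : Set G) := by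
  intro t ht
  rw [← Cfsg.Agent.Lib.Helper53.cj_eq_self_iff]
  apply Cfsg.Agent.Lib.Helper53.cj_eq_of_le
  rw [Subgroup.map_iSup]
  refine iSup_le fun s => ?_
  rw [Cfsg.Agent.Lib.Helper53.cj_cj]
  exact le_iSup (fun s : ↥S => A.map (MulAut.conj (s : G)).toMonoidHom) (⟨t, ht⟩ * s)

omit [Finite G] in
theorem le_iSup_conj (S A : Subgroup G) :
    A ≤ ⨆ s : ↥S, A.map (MulAut.conj (s : G)).toMonoidHom := by
  have h := le_iSup (fun s : ↥S => A.map (MulAut.conj (s : G)).toMonoidHom) 1
  have h1 : A.map (MulAut.conj (((1 : ↥S) : G))).toMonoidHom = A := by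
    rw [Subgroup.coe_one]; exact Cfsg.Agent.Lib.Helper53.cj_one A
  exact h1.symm.le.trans h

omit [Finite G] in
/-- the layer normalizes every component -/
theorem layer_le_normalizer_component {L : Subgroup G} (hL : Cfsg.IsComponent L) :
    Cfsg.layer G ≤ Subgroup.normalizer (L : Set G) := by
  refine sSup_le fun L' hL' => ?_
  by_cases h : L' = L
  · rw [h]; exact Subgroup.le_normalizer
  · exact (Subgroup.commutator_eq_bot_iff_le_centralizer.mp
      (IsComponent.commutator_eq_bot_of_ne hL' hL h)).trans (Subgroup.centralizer_le_normalizer _)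

omit [Finite G] in
theorem isComponent_conj {K : Subgroup G} (hK : Cfsg.IsComponent K) (g : G) :
    Cfsg.IsComponent (K.map (MulAut.conj g).toMonoidHom) :=
  isComponent_map_equiv (MulAut.conj g) hK

/-- criterion for `p`-minimality of a subgroup `X`, in terms of one Sylow subgroup `T` of `X` -/
theorem isPMinimal_of_isSyl {X T M₀ : Subgroup G} (hT : IsSyl p T X)
    (hnn : ¬ X ≤ Subgroup.normalizer (T : Set G)) (hM₀ : ¬ X ≤ M₀)
    (h : ∀ Y : Subgroup G, Y ≤ X → T ≤ Y → Y ≠ X → Y ≤ M₀) : Cfsg.IsPMinimal p ↥X := by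
  intro T'
  have hnorm : ¬ (T' : Subgroup ↥X).Normal := by
    intro hn
    have := Sylow.unique_of_normal T' hn
    have h1 : hT.toSylow = T' := Subsingleton.elim _ _
    have h2 : (T.subgroupOf X).Normal := by
      rw [← hT.coe_toSylow, h1]; exact hn
    exact hnn ((Subgroup.normal_subgroupOf_iff_le_normalizer hT.le).1 h2)
  refine ⟨hnorm, ?_⟩
  obtain ⟨x, hx, hconj⟩ := hT.exists_conj (Cfsg.Agent.Lib.Helper53.isSyl_of_sylow T')
  set M₁ := M₀.map (MulAut.conj x).toMonoidHom with hM₁
  have hXx : X.map (MulAut.conj x⁻¹).toMonoidHom = X :=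
    Cfsg.Agent.Lib.Helper53.cj_eq_self_of_mem (X.inv_mem hx)
  have hM₁X : ¬ X ≤ M₁ := by
    intro hle
    apply hM₀
    have h1 := (Cfsg.Agent.Lib.Helper53.cj_le_iff (Q := X) (R := M₀) x⁻¹).2 (by rwa [inv_inv])
    rwa [hXx] at h1
  have hY : ∀ Y : Subgroup G, Y ≤ X → (T' : Subgroup ↥X).map X.subtype ≤ Y → Y ≠ X → Y ≤ M₁ := by
    intro Y hYX hTY hne
    have h1 : Y.map (MulAut.conj x⁻¹).toMonoidHom ≤ M₀ := by
      apply h
      · exact Cfsg.Agent.Lib.Helper53.cj_le_of_le_of_mem hYX (X.inv_mem hx)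
      · rw [hconj] at hTY
        exact (Cfsg.Agent.Lib.Helper53.cj_le_iff x).1 hTY
      · intro he
        apply hne
        rw [← hXx] at he
        exact Subgroup.map_injective (MulAut.conj x⁻¹).injective he
    have h2 := (Cfsg.Agent.Lib.Helper53.cj_le_iff x⁻¹).1 h1
    rwa [inv_inv] at h2
  have hne : (T' : Subgroup ↥X) ≠ ⊤ := by
    intro he
    apply hnorm
    rw [he]; infer_instance
  have hM₂ : M₁.subgroupOf X ≠ ⊤ := by
    intro he
    exact hM₁X (Subgroup.subgroupOf_eq_top.1 he)
  have huniq : ∀ M' : Subgroup ↥X, IsCoatom M' ∧ (T' : Subgroup ↥X) ≤ M' → M' = M₁.subgroupOf X := by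
    rintro M' ⟨hco, hle⟩
    have h1 : M'.map X.subtype ≤ M₁ := by
      apply hY _ (Subgroup.map_subtype_le _) (Subgroup.map_mono hle)
      intro he
      apply hco.1
      have h2 : M'.map X.subtype = (⊤ : Subgroup ↥X).map X.subtype := by
        rw [he, ← MonoidHom.range_eq_map, Subgroup.range_subtype]
      exact Subgroup.map_injective X.subtype_injective h2
    have h2 : M' ≤ M₁.subgroupOf X := Subgroup.map_le_iff_le_comap.1 h1
    exact ((hco.le_iff.mp h2).resolve_left hM₂).symm
  obtain ⟨M', hM', hTM'⟩ := (eq_top_or_exists_le_coatom (T' : Subgroup ↥X)).resolve_left hne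
  exact ⟨M', ⟨hM', hTM'⟩, fun M'' hM'' => (huniq M'' hM'').trans (huniq M' ⟨hM', hTM'⟩).symm⟩

end

end Cfsg.Agent.Lib.Helper28
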